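import Groth.Agent.ShStab.K849.Inst

/-!
# Simpson moduli, node MT: a criterion for semistability

`abs_ss`: an object `E` of positive rank such that all its nonzero pure semistable quotients have slope at least that of
`E` is pure and semistable (the last factor of the Harder–Narasimhan filtration of `E / T(E)`).
-/

set_option autoImplicit false
set_option linter.unusedSectionVars false
set_option linter.style.haveILetI false

universe v u

open CategoryTheory CategoryTheory.Limits

namespace K92.SimpHN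

open K849.Abs K849.LatHN Groth.Agent.Cohder.SubobjLattice

variable {C : Type u} [Category.{v} C] [Abelian C] {V : Type*} [AddCommGroup V] [LinearOrder V]
  [IsOrderedAddMonoid V] [Module ℚ V] [PosSMulStrictMono ℚ V] {ok : C → Prop} {P : C → V} {α : V →ₗ[ℚ] ℚ}

/-- The criterion. -/
theorem abs_ss (h : Setup ok P α) {E : C} (hE : ok E) (hpos : 0 < α (P E))
    (hzero : ∀ F : C, ok F → P F ≤ 0 → IsZero F)
    (H : ∀ (Q : C) (π : E ⟶ Q), Epi π → ok Q → 0 < α (P Q) → APure ok P α Q → ASS ok P α Q →
      redle α (P E) (P Q)) : APure ok P α E ∧ ASS ok P α E := by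
  letI := okLattice h hE
  letI := okOrderTop h hE
  letI := okOrderBot h hE
  haveI : WellFoundedGT (Setup.OkSub ok E) := h.noeth E hE
  have hv := isVal h hE
  have hbot : Pv P E (⊥ : Setup.OkSub ok E) = 0 :=
    h.P_zero (ok_bot h hE) ((isZero_zero C).of_iso Subobject.botCoeIsoZero)
  have htop : Pv P E (⊤ : Setup.OkSub ok E) = P E :=
    h.P_iso (asIso (⊤ : Subobject E).arrow) (ok_top h hE)
  have hnn : ∀ c : Setup.OkSub ok E, 0 ≤ α (Pv P E c) := by
    intro c
    have := hv.alpha_nonneg (a := ⊥) (b := c) bot_le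
    rwa [hbot, sub_zero] at this
  -- the torsion subobject
  obtain ⟨a, ha, hamax⟩ := (wellFounded_gt : WellFounded fun x y : Setup.OkSub ok E => x > y).has_min
    {x | α (Pv P E x) = 0} ⟨⊥, by rw [Set.mem_ofPred_eq, hbot, map_zero]⟩
  rw [Set.mem_ofPred_eq] at ha
  have hpure : ∀ c : Setup.OkSub ok E, a < c → 0 < α (Pv P E c - Pv P E a) := by
    intro c hc
    rw [map_sub, ha, sub_zero]
    refine lt_of_le_of_ne (hnn c) fun h0 => ?_
    exact hamax c h0.symm hc
  obtain ⟨s, hs0, hs1, hs, -⟩ := exists_isHN hv a hpure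
  have hane : a ≠ ⊤ := by
    intro hcon
    rw [hcon, htop] at ha
    exact hpos.ne' ha
  have hlen : 0 < s.length := by
    rcases Nat.eq_zero_or_pos s.length with h0 | h0
    · exfalso
      apply hane
      rw [← hs0, ← hs1]
      change s 0 = s (Fin.last _)
      congr 1
      exact Fin.ext (by simp [h0])
    · exact h0
  -- the last step
  set x : Setup.OkSub ok E := s ⟨s.length - 1, by omega⟩ with hx
  have hxtop : s ⟨s.length - 1 + 1, by omega⟩ = ⊤ := by
    rw [← hs1]
    congr 1
    exact Fin.ext (by simp; omega)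
  have hstep := hs.1 ⟨s.length - 1, by omega⟩
  have hxlt : x < ⊤ := by
    have h1 := s.step ⟨s.length - 1, by omega⟩
    have h2 : s (Fin.succ ⟨s.length - 1, by omega⟩) = ⊤ := hxtop
    rw [h2] at h1
    exact h1
  have hstep' : PureInt (Pv P E) α x ⊤ ∧ SSInt (Pv P E) α x ⊤ := by
    have h2 : s (Fin.succ ⟨s.length - 1, by omega⟩) = ⊤ := hxtop
    have h3 := hstep
    rw [h2] at h3
    exact h3
  rw [pureInt_iff h hE x ⊤ le_top, ssInt_iff h hE x ⊤ le_top] at hstep'
  have hQok : ok (cokernel (Subobject.ofLE x.1 (⊤ : Setup.OkSub ok E).1 le_top)) := h.ok_coker _ x.2 (ok_top h hE)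
  have hPQ : P (cokernel (Subobject.ofLE x.1 (⊤ : Setup.OkSub ok E).1 le_top)) = Pv P E (⊤ : Setup.OkSub ok E) - Pv P E x :=
    h.P_cokernel _ x.2 (ok_top h hE)
  have hxpos : 0 < α (Pv P E (⊤ : Setup.OkSub ok E) - Pv P E x) := by
    have := hs.pos (s.length - 1) (by omega)
    rwa [hxtop] at this
  have hQ : redle α (P E) (Pv P E (⊤ : Setup.OkSub ok E) - Pv P E x) := by
    rw [← hPQ]
    refine H _ (inv (⊤ : Subobject E).arrow ≫ cokernel.π _) (epi_comp _ _) hQok (by rw [hPQ]; exact hxpos)
      hstep'.1 hstep'.2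
  -- all quotients of `E / a` have slope at least that of `E`
  have hall : ∀ c : Setup.OkSub ok E, a ≤ c → redle α (P E) (Pv P E (⊤ : Setup.OkSub ok E) - Pv P E c) := by
    intro c hc
    have h1 := redle_last hv hs1 hs 0 hlen s.length (by omega) c (by
      have : s ⟨0, by omega⟩ = a := hs0
      rw [this]; exact hc)
    exact redle_trans' hxpos hpos.le (hv.alpha_nonneg le_top) hQ h1
  have ha0 : a = ⊥ := by
    have h1 := hall a le_rfl
    have h2 : α (Pv P E (⊤ : Setup.OkSub ok E) - Pv P E a) = α (P E) := by rw [map_sub, ha, sub_zero, htop]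
    have h3 := le_of_redle h2.symm hpos h1
    rw [htop, le_sub_self_iff] at h3
    have h4 : IsZero (a.1 : C) := hzero _ a.2 h3
    have : a.1 = ⊥ := by
      rw [eq_bot_iff]
      exact Subobject.le_of_comm 0 (by rw [zero_comp]; exact (h4.eq_of_src _ _))
    exact Subtype.ext this
  -- subobjects as elements of the lattice
  have hsub : ∀ (F : C) (ι : F ⟶ E), Mono ι → ok F → ¬ IsZero F → ∃ c : Setup.OkSub ok E, Pv P E c = P F ∧ ⊥ < c := by
    intro F ι _ hF hF0
    have hok : ok ((Subobject.mk ι : Subobject E) : C) := h.ok_iso (Subobject.underlyingIso ι).symm hF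
    refine ⟨⟨Subobject.mk ι, hok⟩, (h.P_iso (Subobject.underlyingIso ι).symm hF).symm, ?_⟩
    refine lt_of_le_of_ne bot_le fun h0 => hF0 ?_
    have h1 : Subobject.mk ι = ⊥ := (congrArg Subtype.val h0).symm
    have h2 : IsZero ((Subobject.mk ι : Subobject E) : C) := by
      rw [h1]
      exact (isZero_zero C).of_iso Subobject.botCoeIsoZero
    exact h2.of_iso (Subobject.underlyingIso ι).symm
  refine ⟨fun F ι hι hF hF0 => ?_, fun F ι hι hF hF0 => ?_⟩
  · obtain ⟨c, hc, hc0⟩ := hsub F ι hι hF hF0
    have := hpure c (by rw [ha0]; exact hc0)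
    rwa [map_sub, ha, sub_zero, hc] at this
  · obtain ⟨c, hc, hc0⟩ := hsub F ι hι hF hF0
    have h1 := hall c (by rw [ha0]; exact bot_le)
    rw [htop] at h1
    rw [← hc]
    have e : P E = Pv P E c + (P E - Pv P E c) := by abel
    rw [e] at h1
    have e2 : Pv P E c + (P E - Pv P E c) - Pv P E c = P E - Pv P E c := by abel
    rw [e2, redle_add_left_iff] at h1
    rw [e, redle_add_right_iff]
    exact h1

end K92.SimpHN
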