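import Groth.Agent.Coherent.K585.Defs
import Groth.Agent.Fga.QT5
import Groth.Agent.Fga.QT8Map

/-!
# Simpson moduli, node MT: the subsheaf generated by a space of sections

`S : GenSys g E (Fin a) N` generating, `V' ≤ k^a`, `Y` closed in `P^n_k`.
* `SV V'`: the submodule `V' ⊗ S` of `W`;
* `gsub`: the subsheaf `F'` of `E` generated by `V'`: `grSub F' = sat (L + V' ⊗ S)`;
* `le_gsub`, `gsub_le`: it is the smallest subsheaf containing the sections of `V'`;
* `finrank_eq`: `h(E)(d) - h(E/F')(d) = dim (V' ⊗ S_d) - dim (V' ⊗ S_d ⊓ L_d)` for `d ≫ 0`.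
-/

set_option autoImplicit false

universe u

open CategoryTheory CategoryTheory.Limits AlgebraicGeometry MvPolynomial

namespace K92.SimpSub

open Groth.Agent Fga.QA0 Fga.QTDefs Fga.QT8 Fga.QT4b Fga.QT5 K585.Defs

section Alg

variable {k : Type u} [Field k] {n a : ℕ}

/-- `V' ⊗ S` as a submodule of `W`. -/
noncomputable def SV (V' : Submodule k (Fin a → k)) :
    Submodule (MvPolynomial (Fin (n + 1)) k) (W (Fin (n + 1)) (Fin a) k) where
  carrier := {w | ∀ m, (fun j => coeff m (w j)) ∈ V'}
  add_mem' := by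
    intro u w h1 h2 m
    have h5 : (fun j => coeff m ((u + w) j)) = (fun j => coeff m (u j)) + fun j => coeff m (w j) := by
      funext j; exact coeff_add _ _ _
    rw [h5]
    exact add_mem (h1 m) (h2 m)
  zero_mem' := by
    intro m
    have h5 : (fun j => coeff m ((0 : W (Fin (n + 1)) (Fin a) k) j)) = 0 := by
      funext j; exact coeff_zero _
    rw [h5]
    exact zero_mem V'
  smul_mem' := by
    classical
    intro p w h m
    have h5 : (fun j => coeff m ((p • w) j)) =
        ∑ x ∈ Finset.antidiagonal m, coeff x.1 p • fun j => coeff x.2 (w j) := by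
      funext j
      rw [Finset.sum_apply]
      change coeff m (p * w j) = _
      rw [coeff_mul]
      rfl
    rw [h5]
    exact sum_mem fun x _ => Submodule.smul_mem _ _ (h x.2)

lemma mem_SV {V' : Submodule k (Fin a → k)} {w : W (Fin (n + 1)) (Fin a) k} :
    w ∈ SV V' ↔ ∀ m, (fun j => coeff m (w j)) ∈ V' := Iff.rfl

lemma pc_SV (V' : Submodule k (Fin a → k)) (d : ℕ) : pc (SV (n := n) V') d = WV V' d := by
  ext w
  exact and_comm

lemma isHom_SV (V' : Submodule k (Fin a → k)) : IsHom (SV (n := n) V') := by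
  classical
  intro w hw d m
  by_cases h : m.degree = d
  · have h1 : (fun j => coeff m (comp d w j)) = fun j => coeff m (w j) := by
      funext j
      rw [Fga.QA0.comp_apply, coeff_homogeneousComponent, if_pos h]
    rw [h1]
    exact hw m
  · have h1 : (fun j => coeff m (comp d w j)) = 0 := by
      funext j
      rw [Fga.QA0.comp_apply, coeff_homogeneousComponent, if_neg h]
      rfl
    rw [h1]
    exact zero_mem _

lemma pc_sup {K K' : Submodule (MvPolynomial (Fin (n + 1)) k) (W (Fin (n + 1)) (Fin a) k)} (hK : IsHom K)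
    (hK' : IsHom K') (d : ℕ) : pc (K ⊔ K') d = pc K d ⊔ pc K' d := by
  apply le_antisymm
  · rintro w ⟨hw, hwd⟩
    obtain ⟨u, hu, v, hv, rfl⟩ := Submodule.mem_sup.1 hw
    rw [← comp_of_mem hwd, map_add]
    exact Submodule.add_mem_sup (hK.comp_mem_pc hu d) (hK'.comp_mem_pc hv d)
  · exact sup_le (pc_mono le_sup_left d) (pc_mono le_sup_right d)

/-- constants -/
noncomputable def cst (u : Fin a → k) : W (Fin (n + 1)) (Fin a) k := fun j => C (u j)

lemma cst_mem_Wd (u : Fin a → k) : cst (n := n) u ∈ Wd (Fin (n + 1)) (Fin a) k 0 := fun j => isHomogeneous_C _ _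

lemma cst_mem_SV {V' : Submodule k (Fin a → k)} {u : Fin a → k} (hu : u ∈ V') : cst (n := n) u ∈ SV V' := by
  classical
  intro m
  by_cases h : m = 0
  · have h1 : (fun j => coeff m (cst (n := n) u j)) = u := by
      funext j
      rw [cst, coeff_C, if_pos h.symm]
    rw [h1]
    exact hu
  · have h1 : (fun j => coeff m (cst (n := n) u j)) = 0 := by
      funext j
      rw [cst, coeff_C, if_neg (fun h' => h h'.symm)]
      rfl
    rw [h1]
    exact zero_mem _

/-- elements of `V' ⊗ S` are combinations of constants -/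
lemma eq_sum_cst (w : W (Fin (n + 1)) (Fin a) k) : ∃ T : Finset (Fin (n + 1) →₀ ℕ),
    w = ∑ m ∈ T, (monomial m (1 : k)) • cst (fun j => coeff m (w j)) := by
  classical
  refine ⟨Finset.univ.biUnion fun j => (w j).support, ?_⟩
  funext j
  rw [Finset.sum_apply]
  have h1 : ∀ m, (monomial m (1 : k) • cst (n := n) (fun j => coeff m (w j))) j = monomial m (coeff m (w j)) := by
    intro m
    change monomial m (1 : k) * C (coeff m (w j)) = _
    rw [mul_comm, C_mul_monomial, mul_one]
  rw [Finset.sum_congr rfl fun m _ => h1 m]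
  conv_lhs => rw [(w j).as_sum]
  refine Finset.sum_subset (Finset.subset_biUnion_of_mem (fun j => (w j).support) (Finset.mem_univ j)) fun m _ hm => ?_
  rw [notMem_support_iff.1 hm, map_zero]

end Alg

section Geo

variable {k : Type u} [Field k] {n a N : ℕ} {Y : Scheme.{u}} {g : Y ⟶ PZ n} {q : Y ⟶ Spec (CommRingCat.of k)}
  {E : Y.Modules} (S : GenSys g E (Fin a) N)

/-- the section on the chart `i` given by `u ∈ k^a` -/
noncomputable abbrev sc (q : Y ⟶ Spec (CommRingCat.of k)) (i : Fin (n + 1)) (u : Fin a → k) : Γ(E, V g i) :=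
  sg g q S i (cst u)

lemma sg_monomial (i : Fin (n + 1)) (m : Fin (n + 1) →₀ ℕ) (u : Fin a → k) :
    sg g q S i (monomial m (1 : k) • cst u) = ev g q i (monomial m 1) • sc S q i u := sg_smul g q S i _ _

/-- the graded module of the subsheaf generated by `V'` -/
noncomputable def KV (q : Y ⟶ Spec (CommRingCat.of k)) (V' : Submodule k (Fin a → k)) :
    Submodule (MvPolynomial (Fin (n + 1)) k) (W (Fin (n + 1)) (Fin a) k) :=
  sat (grSub g q S (⊥ : Subobject E) ⊔ SV V')

variable [IsClosedImmersion (toPA g q)]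

lemma isHom_bot (hE : Coh.IsQCoh E) : IsHom (grSub g q S (⊥ : Subobject E)) :=
  (grSub_isHom_isSat g q S (isQCoh_cokernel_bot hE)).1

lemma isSat_bot (hE : Coh.IsQCoh E) : IsSat (grSub g q S (⊥ : Subobject E)) :=
  (grSub_isHom_isSat g q S (isQCoh_cokernel_bot hE)).2

lemma isHom_KV (hE : Coh.IsQCoh E) (V' : Submodule k (Fin a → k)) : IsHom (KV S q V') :=
  ((isHom_bot S hE).sup (isHom_SV V')).sat

theorem exists_gsub (hE : Coh.IsQCoh E) (V' : Submodule k (Fin a → k)) :
    ∃ F : Subobject E, Coh.IsQCoh (cokernel F.arrow) ∧ grSub g q S F = KV S q V' :=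
  exists_grSub g q S hE _ (isHom_KV S hE V') (isSat_sat _) (le_sup_left.trans (le_sat _))

/-- The sections in `V'` are in the subsheaf. -/
theorem sc_mem {V' : Submodule k (Fin a → k)} {F : Subobject E} (hF : grSub g q S F = KV S q V') {u : Fin a → k}
    (hu : u ∈ V') (i : Fin (n + 1)) : sc S q i u ∈ secSub F (V g i) := by
  have h1 : cst u ∈ grSub g q S F := by
    rw [hF]
    exact le_sat _ (le_sup_right (a := grSub g q S (⊥ : Subobject E)) (cst_mem_SV hu))
  have h2 := (mem_grSub g q S F (cst u)).1 h1 0 i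
  rwa [comp_of_mem (cst_mem_Wd u)] at h2

/-- It is the smallest one. -/
theorem gsub_le (hE : Coh.IsQCoh E) (hS : S.Gen) {V' : Submodule k (Fin a → k)} {F F' : Subobject E}
    (hFq : Coh.IsQCoh (cokernel F.arrow)) (hF : grSub g q S F = KV S q V')
    (hFq' : Coh.IsQCoh (cokernel F'.arrow)) (h : ∀ u ∈ V', ∀ i, sc S q i u ∈ secSub F' (V g i)) : F ≤ F' := by
  rw [← grSub_le_iff g q S hE hS hFq hFq', hF]
  refine (sat_mono (sup_le ?_ ?_)).trans (grSub_isHom_isSat g q S hFq').2
  · rw [grSub_le_iff g q S hE hS (isQCoh_cokernel_bot hE) hFq']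
    exact bot_le
  · intro w hw d i
    have h1 := isHom_SV V' w hw d
    obtain ⟨T, hT⟩ := eq_sum_cst (comp d w)
    rw [hT]
    refine Submodule.sum_mem _ fun m _ => ?_
    rw [mem_chart, sg_monomial]
    exact Submodule.smul_mem _ _ (h _ (h1 m) i)

/-- The Hilbert function. -/
theorem finrank_eq (hE : Coh.IsQCoh E) (V' : Submodule k (Fin a → k)) :
    ∃ D : ℕ, ∀ d : ℕ, D ≤ d → Fga.QA1.h (grSub g q S (⊥ : Subobject E)) d - Fga.QA1.h (KV S q V') d =
      (Module.finrank k (WV (n := n) V' d) : ℤ) -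
        Module.finrank k (WV (n := n) V' d ⊓ pc (grSub g q S (⊥ : Subobject E)) d :
          Submodule k (W (Fin (n + 1)) (Fin a) k)) := by
  obtain ⟨D, hD⟩ := Fga.QA1.sat_eventually ((isHom_bot S (q := q) hE).sup (isHom_SV V'))
  refine ⟨D, fun d hd => ?_⟩
  have h1 : pc (KV S q V') d = pc (grSub g q S (⊥ : Subobject E)) d ⊔ WV V' d := by
    rw [KV, hD d hd, pc_sup (isHom_bot S hE) (isHom_SV V'), pc_SV]
  have hf : Module.Finite k (WV (n := n) V' d) :=
    Submodule.finiteDimensional_of_le (fun w hw => hw.1 : WV (n := n) V' d ≤ Wd (Fin (n + 1)) (Fin a) k d)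
  have h2 := Submodule.finrank_sup_add_finrank_inf_eq (pc (grSub g q S (⊥ : Subobject E)) d) (WV (n := n) V' d)
  unfold Fga.QA1.h
  rw [h1, inf_comm (WV (n := n) V' d)]
  omega

end Geo

end K92.SimpSub
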