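import Groth.Agent.Coherent.K92.SimpHp
import Groth.Agent.Coherent.K92.SimpSub

/-!
# Simpson moduli, node MT: the uniform estimate on `Y`, submodules and their Hilbert polynomials

* `unifY`: the uniform estimate of `K51.Simp.unif` for modules on `Y` closed in `P^n_k`;
* `hp_cokernel`, `isCoh_sub`: for a submodule with quasi-coherent cokernel;
* `hp_gsub`: the Hilbert polynomial of the subsheaf generated by a space of sections;
* `finrank_le_hilb_sub`, `le_hilb_add_finrank`: sections of subsheaves and quotients.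
-/

set_option autoImplicit false

universe u

open CategoryTheory CategoryTheory.Limits AlgebraicGeometry Polynomial

namespace K92.SimpUnif

open Groth.Agent Fga.QTDefs Fga.QT8 Fga.QT4b StabCat K92.SimpHp

/-- **The uniform estimate on `Y`.** -/
theorem unifY (n : ℕ) (P : ℚ[X]) (hP : 0 < alpha P.natDegree P) : ∃ N₀ : ℕ, ∀ N : ℕ, N₀ ≤ N →
    ∀ (k : Type u) [Field k] [CharZero k] (Y : Scheme.{u}) [Y.Over (Spec (CommRingCat.of k))] (g : Y ⟶ PZ n)
      [IsClosedImmersion (toPA g (Y ↘ Spec (CommRingCat.of k)))] (G : Y.Modules), Coh.IsCoh G → ¬ IsZero G →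
      SubLE k g G P.natDegree (hatSlope P.natDegree P) →
      alpha P.natDegree (hpY k g G) ≤ alpha P.natDegree P →
      (RedEq P.natDegree (hpY k g G) P → alpha P.natDegree P * hilb g (Y ↘ Spec (CommRingCat.of k)) G N =
        alpha P.natDegree (hpY k g G) * P.eval (N : ℚ)) ∧
      (RedLT P.natDegree (hpY k g G) P → alpha P.natDegree P * hilb g (Y ↘ Spec (CommRingCat.of k)) G N <
        alpha P.natDegree (hpY k g G) * P.eval (N : ℚ)) := by
  set d := P.natDegree with hd
  have key := fun r' : ℕ => Coherent.K51.Simp.unif.{u} n d r' (hatSlope d P) (((r' : ℚ) / alpha d P) • P)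
    ((Polynomial.natDegree_smul_le _ _).trans hd.symm.le)
  choose N' hN' using key
  obtain ⟨R, hR⟩ := exists_nat_gt (alpha d P)
  obtain ⟨N₀, hN₀⟩ := ((Finset.range R).image N').exists_le
  refine ⟨N₀.toNat, fun N hN k _ hk Y _ g _ G hG h0 hsub hα => ?_⟩
  have hprop := isProper k g
  obtain ⟨r', hr'⟩ := (K849.HilbFacts.gies k Y (isAmple_O1 k g)).nat G _ d hG
    ((facts k g).spec G hG) (hsub G (𝟙 G) inferInstance hG h0).1.le
  have hlt : r' < R := by
    have : (r' : ℚ) < R := by rw [← hr']; exact lt_of_le_of_lt hα hR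
    exact_mod_cast this
  have hNr : N' r' ≤ (N : ℤ) := (hN₀ _ (Finset.mem_image_of_mem _ (Finset.mem_range.2 hlt))).trans
    ((Int.self_le_toNat _).trans (by exact_mod_cast hN))
  have hcls := cls_push (k := k) (g := g) hG h0 hsub hr'.le
  obtain ⟨h1, h2⟩ := hN' r' N hNr k hk (pu k g G) (hpY k g G) hcls
  have hfr := finrank_H_push k g G N
  constructor
  · intro heq
    have h3 : hpY k g G = ((r' : ℚ) / alpha d P) • P := by
      unfold RedEq at heq
      rw [hr'] at heq
      rw [div_eq_inv_mul, ← smul_smul, ← heq, smul_smul, inv_mul_cancel₀ hP.ne', one_smul]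
    have h4 := Coherent.K51.LPS.h0_eq_of_regular (isCoh_push k g hG) (HP_push k g hG) (h1 h3)
    rw [hfr] at h4
    rw [h4, hr']
    conv_lhs => rw [h3]
    rw [eval_smul, smul_eq_mul]
    field_simp
    simp
  · intro hlt'
    have h3 : PolyLT (hpY k g G) (((r' : ℚ) / alpha d P) • P) := by
      unfold RedLT at hlt'
      rw [hr'] at hlt'
      rw [← K847.PolyOrd.polyLT_smul_iff hP, smul_smul, mul_div_cancel₀ _ hP.ne']
      exact hlt'
    have h4 := h2 h3
    rw [hfr, eval_smul, smul_eq_mul] at h4
    have h5 := mul_lt_mul_of_pos_left h4 hP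
    rw [hr']
    refine h5.trans_eq ?_
    field_simp
    simp

end K92.SimpUnif
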