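import Groth.Agent.Coherent.K92.SimpSec
import Groth.Agent.Coherent.K92.SimpUnif
import Groth.Agent.Coherent.K92.SimpHN

/-!
# Simpson moduli, node MT: GIT-semistable Kronecker modules are those of semistable sheaves

* `Est`: the uniform estimate of `unifY` for one `N`;
* `ssh_of_isSS`: King's condition implies semistability and independence of the sections;
* `isSS_of_ssh`: the Kronecker module of a frame of a semistable sheaf satisfies King's condition;
* `mt`: the main theorem, relative to the finiteness of Hilbert polynomials (`HF`) and generation (`REG`).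
-/

set_option autoImplicit false

universe u

open CategoryTheory CategoryTheory.Limits AlgebraicGeometry

namespace K92.SimpMT

open Groth.Agent Fga.QA0 Fga.QTDefs Fga.QT8 Fga.QT4b Fga.QT5 StabCat K92.SimpHp K92.SimpSub K585.Defs K585.KronK
  K92.SimpKey K92.SimpSec K849.Abs K849.PolyOrd K849.TopPart K849.LatHN K849.Inst

/-- The uniform estimate for one `N`. -/
def Est (k : Type u) [Field k] (n N : ℕ) (P : Polynomial ℚ) : Prop :=
  ∀ (Y : Scheme.{u}) [Y.Over (Spec (CommRingCat.of k))] (g : Y ⟶ PZ n)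
      [IsClosedImmersion (toPA g (Y ↘ Spec (CommRingCat.of k)))] (G : Y.Modules), Coh.IsCoh G → ¬ IsZero G →
      SubLE k g G P.natDegree (hatSlope P.natDegree P) →
      alpha P.natDegree (hpY k g G) ≤ alpha P.natDegree P →
      (RedEq P.natDegree (hpY k g G) P → alpha P.natDegree P * hilb g (Y ↘ Spec (CommRingCat.of k)) G N =
        alpha P.natDegree (hpY k g G) * P.eval (N : ℚ)) ∧
      (RedLT P.natDegree (hpY k g G) P → alpha P.natDegree P * hilb g (Y ↘ Spec (CommRingCat.of k)) G N <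
        alpha P.natDegree (hpY k g G) * P.eval (N : ℚ))

section Pl

variable {k : Type u} [Field k] {X : Scheme.{u}} [X.Over (Spec (CommRingCat.of k))]
  {L : X.Modules} {hp : X.Modules → Polynomial ℚ} [IsNoetherian X] (h : HilbFacts k X L hp) {d : ℕ}

lemma pl_eq {F : X.Modules} (hF : ok hp d F) : Pl hp d d F = toPV (hp F) := by
  unfold Pl
  rw [topPart_eq_self le_rfl hF.2]

lemma redle_pl {F G : X.Modules} (hF : ok hp d F) (hG : ok hp d G) :
    redle (alphaL d) (Pl hp d d F) (Pl hp d d G) ↔ RedLE d (hp F) (hp G) := by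
  rw [pl_eq hF, pl_eq hG, redle_iff]

end Pl

/-- `hatSlope` and the reduced comparison, in any dimension. -/
theorem hatSlope_le {d : ℕ} {P Q : Polynomial ℚ} (hP : P.natDegree ≤ d) (hQ : Q.natDegree ≤ d) (hP0 : 0 < alpha d P)
    (hQ0 : 0 < alpha d Q) (h : RedLE d P Q) : hatSlope d P ≤ hatSlope d Q := by
  rcases Nat.eq_zero_or_pos d with rfl | hd
  · unfold hatSlope
    rw [Nat.zero_sub, div_self hP0.ne', div_self hQ0.ne']
  · exact K847.PolyOrd.hatSlope_le_of_redLE hd hP hQ hP0 hQ0 h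

theorem alpha_le_of_polyLE {d : ℕ} {P Q : Polynomial ℚ} (hP : P.natDegree ≤ d) (hQ : Q.natDegree ≤ d)
    (h : PolyLE P Q) : alpha d P ≤ alpha d Q :=
  K847.PolyOrd.alpha_le_iff.2 (K847.PolyOrd.coeff_le_of_polyLE hP hQ h)

/-- the frozen comparison of reduced polynomials -/
theorem w4_of_redLE {d : ℕ} {ψ P : Polynomial ℚ} (hψ : 0 < alpha d ψ) (hP : 0 < alpha d P) (h : RedLE d ψ P) :
    W4c2simpsonmod1.RedLE d ψ P := by
  obtain ⟨M, hM⟩ := h
  refine ⟨(M : ℤ), fun m hm => ?_⟩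
  obtain ⟨m, rfl⟩ := Int.eq_ofNat_of_zero_le (show 0 ≤ m by omega)
  have h1 := hM m (by exact_mod_cast hm)
  rw [Polynomial.eval_smul, Polynomial.eval_smul, smul_eq_mul, smul_eq_mul] at h1
  change ψ.eval (((m : ℕ) : ℤ) : ℚ) / alpha d ψ ≤ P.eval (((m : ℕ) : ℤ) : ℚ) / alpha d P
  rw [div_le_div_iff₀ hψ hP]
  push_cast
  linarith

section Main

variable {k : Type u} [Field k] {n a b N e₁ : ℕ} {P : Polynomial ℚ} {Φ : ℤ → ℤ} {s : Finset (ℤ → ℤ)}
  {Y : Scheme.{u}} [Y.Over (Spec (CommRingCat.of k))] {g : Y ⟶ PZ n}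
  [IsClosedImmersion (toPA g (Y ↘ Spec (CommRingCat.of k)))] {E : Y.Modules}

theorem not_isZero (hP : hpY k g E = P) (hP0 : P ≠ 0) : ¬ IsZero E := by
  have := isNoetherian k g
  intro h
  exact hP0 (hP ▸ hp_zero (facts k g) h)

theorem alpha_pos' (hE : Coh.IsCoh E) (hP : hpY k g E = P) (hP0 : P ≠ 0) : 0 < alpha P.natDegree P := by
  have h1 := (facts k g).pos E hE (not_isZero hP hP0)
  rw [hP] at h1
  unfold alpha
  exact mul_pos (by positivity) h1

theorem hp_kernel {Q : Y.Modules} (π : E ⟶ Q) [Epi π] (hE : Coh.IsCoh E) (hQ : Coh.IsCoh Q) :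
    Coh.IsCoh (kernel π) ∧ hpY k g E = hpY k g (kernel π) + hpY k g Q := by
  have := isNoetherian k g
  have hK : Coh.IsCoh (kernel π) := Sga67.CohBasic.isCoh_kernel π hE hQ.1
  exact ⟨hK, (facts k g).add (ShortComplex.mk (kernel.ι π) π (kernel.condition π)) (Setup.shortExact_ker π) hK hE hQ⟩

theorem alpha_mono {F G : Y.Modules} (ι : F ⟶ G) [Mono ι] (hF : Coh.IsCoh F) (hG : Coh.IsCoh G) {d : ℕ}
    (hd : (hpY k g G).natDegree ≤ d) : alpha d (hpY k g F) ≤ alpha d (hpY k g G) := by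
  have := isNoetherian k g
  have hf := facts k g
  have hFok : ok (hpY k g) d F := ⟨hF, (natDegree_le_of_mono hf ι hF hG).trans hd⟩
  have hGok : ok (hpY k g) d G := ⟨hG, hd⟩
  have hQ := (setup hf d d).ok_coker ι hFok hGok
  have h5 := hf.add _ (Setup.shortExact_coker ι) hF hG hQ.1
  have h6 := alpha_nonneg hf hQ
  have h7 := congrArg (alpha d) h5
  rw [K847.PolyOrd.alpha_add] at h7
  change alpha d (hpY k g G) = alpha d (hpY k g F) + alpha d (hpY k g (cokernel ι)) at h7
  linarith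

/-- the structure morphism -/
local notation "QQ" => (Y ↘ Spec (CommRingCat.of k))

/-- **King's condition implies semistability.** -/
theorem ssh_of_isSS (hest : Est k n N P) (D : Dat k n a N e₁ P Φ s) (ha : (a : ℚ) = P.eval (N : ℚ)) (hP0 : P ≠ 0)
    {e : ℕ} (he : e₁ ≤ e) (hb : (b : ℚ) = P.eval ((N + e : ℕ) : ℚ)) (hb0 : 0 < b) (hE : Coh.IsCoh E)
    (hP : hpY k g E = P)
    (v : Fin a → Sec g (Y ↘ Spec (CommRingCat.of k)) E)
    (hv : ∀ j, v j ∈ TwSec g (Y ↘ Spec (CommRingCat.of k)) E N)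
    (hgen : ∀ i, Submodule.span Γ(Y, V g i) (Set.range fun j => v j i) = ⊤) (α : Kr a b (hn n e) k)
    (hα : ∀ w ∈ Wd (Fin (n + 1)) (Fin a) k e, sgL (Y ↘ Spec (CommRingCat.of k)) (sysOf v hv) w = 0 → alev α w = 0)
    (hss : K585.KronK.IsSS α) : SSh k g P E ∧ LinearIndependent k v := by
  have hnoeth := isNoetherian k g
  have hf := facts k g
  set S := sysOf v hv with hSdef
  have hS : S.Gen := hgen
  set d := P.natDegree with hd
  have hαP : 0 < alpha d P := alpha_pos' hE hP hP0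
  have hE0 : ¬ IsZero E := not_isZero hP hP0
  have hbΦ : (b : ℤ) = Φ e := by
    have h1 := D.hΦ e
    rw [← hb] at h1
    exact_mod_cast h1.symm
  -- King's inequality
  have king : ∀ (V' : Submodule k (Fin a → k)) (F : Subobject E), Coh.IsQCoh (cokernel F.arrow) →
      grSub g QQ S F = KV S QQ V' →
      PolyLE ((Module.finrank k V' : ℚ) • P) ((a : ℚ) • hpY k g (F : Y.Modules)) := by
    intro V' F hF hFV
    rw [← D.iff hE hP hS hF hFV he]
    have h1 := hss V'
    have h2 := finrank_le (α := α) (L := grSub g QQ S (⊥ : Subobject E)) (fun w hw =>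
      hα w hw.2 ((mem_grSub_bot_iff_sgL S hw.2).1 hw.1)) V'
    have h3 : (b : ℤ) * Module.finrank k V' ≤
        a * Module.finrank k (⨆ l, V'.map (α l).mulVecLin : Submodule k (Fin b → k)) := by exact_mod_cast h1
    rw [← hbΦ, mul_comm]
    exact h3.trans (mul_le_mul_of_nonneg_left h2 (by positivity))
  have hdeg : ∀ F : Subobject E, Coh.IsQCoh (cokernel F.arrow) → (hpY k g (F : Y.Modules)).natDegree ≤ d := by
    intro F hF
    have h1 := natDegree_le_of_mono hf F.arrow (isCoh_sub k g hE hF) hE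
    rwa [hP] at h1
  have kingα : ∀ (V' : Submodule k (Fin a → k)) (F : Subobject E), Coh.IsQCoh (cokernel F.arrow) →
      grSub g QQ S F = KV S QQ V' →
      (Module.finrank k V' : ℚ) * alpha d P ≤ a * alpha d (hpY k g (F : Y.Modules)) := by
    intro V' F hF hFV
    have h1 := alpha_le_of_polyLE (d := d) ((Polynomial.natDegree_smul_le _ _).trans le_rfl)
      ((Polynomial.natDegree_smul_le _ _).trans (hdeg F hF)) (king V' F hF hFV)
    rwa [K847.PolyOrd.alpha_smul, K847.PolyOrd.alpha_smul] at h1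
  have hEok : ok (hpY k g) d E := ⟨hE, by rw [hP]⟩
  -- semistability
  have main : APure (ok (hpY k g) d) (Pl (hpY k g) d d) (alphaL d) E ∧
      ASS (ok (hpY k g) d) (Pl (hpY k g) d d) (alphaL d) E := by
    refine SimpHN.abs_ss (setup hf d d) hEok ?_ ?_ ?_
    · rw [alphaL_Pl hf, hP]
      exact hαP
    · intro F hF hle
      rw [pl_eq hF, ← toPV_zero, toPV_le] at hle
      by_contra hF0
      have h1 := polyLT_iff.2 (hf.pos F hF.1 hF0)
      exact not_polyLE_of_polyLT h1 hle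
    · intro Q π hπ hQ hαQ hpure hssQ
      by_contra hcon
      rw [not_redle, pl_eq hQ, pl_eq hEok, redlt_iff, hP] at hcon
      rw [alphaL_Pl hf] at hαQ
      have hQ0 : ¬ IsZero Q := by
        intro h0
        rw [hp_zero hf h0, K847.PolyOrd.alpha_zero] at hαQ
        exact lt_irrefl _ hαQ
      -- slopes of the submodules of `Q`
      have hsub : SubLE k g Q d (hatSlope d P) := by
        intro F ι hι hF hF0
        have hFok : ok (hpY k g) d F := ⟨hF, (natDegree_le_of_mono hf ι hF hQ.1).trans hQ.2⟩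
        have h1 := hpure F ι hι hFok hF0
        rw [alphaL_Pl hf] at h1
        refine ⟨(alpha_pos_iff hf hFok hF0).1 h1, ?_⟩
        have h2 := hssQ F ι hι hFok hF0
        rw [redle_pl hFok hQ] at h2
        exact (hatSlope_le hFok.2 hQ.2 h1 hαQ h2).trans
          (hatSlope_le hQ.2 le_rfl hαQ hαP (K847.PolyOrd.redLE_of_redLT hcon))
      -- multiplicities
      obtain ⟨hK, hadd⟩ := hp_kernel (k := k) (g := g) π hE hQ.1
      have hKok : ok (hpY k g) d (kernel π) := ⟨hK, (natDegree_le_of_mono hf (kernel.ι π) hK hE).trans hEok.2⟩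
      have hαK : alpha d P = alpha d (hpY k g (kernel π)) + alpha d (hpY k g Q) := by
        rw [← hP, hadd, K847.PolyOrd.alpha_add]
      have hαK0 := alpha_nonneg hf hKok
      obtain ⟨-, h2⟩ := hest Y g Q hQ.1 hQ0 hsub (by rw [hαK]; linarith)
      have h3 := h2 hcon
      rw [← ha] at h3
      -- the sections which vanish in `Q`
      have h4 := le_hilb_quot (k := k) (S := S) hQ.1 π
      obtain ⟨F, hF, hFV⟩ := exists_gsub S (q := QQ) hE.1 (kerV k S π)
      have hKmk : Coh.IsQCoh (cokernel (Subobject.mk (kernel.ι π)).arrow) :=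
        PerfA.QCohSerre.isQCoh_of_iso (K846.QClosed.cokerIso π).symm hQ.1.1
      have hle : F ≤ Subobject.mk (kernel.ι π) :=
        gsub_le S hE.1 hS hF hFV hKmk fun u hu i => mem_secSub_ker π (mem_kerV π hu i)
      have hαF : alpha d (hpY k g (F : Y.Modules)) ≤ alpha d (hpY k g (kernel π)) := by
        have hι : Mono (Subobject.ofLEMk F (kernel.ι π) hle) := inferInstance
        exact alpha_mono (Subobject.ofLEMk F (kernel.ι π) hle) (isCoh_sub k g hE hF) hK hKok.2
      have h5 := kingα _ F hF hFV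
      have h6 : (a : ℚ) ≤ hilb g QQ Q N + Module.finrank k (kerV k S π) := by exact_mod_cast h4
      have h7 : (a : ℚ) * alpha d (hpY k g (F : Y.Modules)) ≤ a * alpha d (hpY k g (kernel π)) :=
        mul_le_mul_of_nonneg_left hαF (by positivity)
      have h8 : (a : ℚ) * alpha d P ≤ (hilb g QQ Q N + Module.finrank k (kerV k S π)) * alpha d P :=
        mul_le_mul_of_nonneg_right h6 hαP.le
      nlinarith
  obtain ⟨hpure, hssE⟩ := main
  refine ⟨⟨hE, (hp_iff k g hE P).2 hP.symm, ?_, fun G ι hι hG hG0 => ?_⟩, ?_⟩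
  · rw [hf.dim E hE hE0, hP]
  · have hGok : ok (hpY k g) d G := ⟨hG, (natDegree_le_of_mono hf ι hG hE).trans hEok.2⟩
    have h1 := hpure G ι hι hGok hG0
    rw [alphaL_Pl hf] at h1
    have h2 := hssE G ι hι hGok hG0
    rw [redle_pl hGok hEok, hP] at h2
    refine ⟨?_, fun ψ hψ => ?_⟩
    · rw [hf.dim G hG hG0, (alpha_pos_iff hf hGok hG0).1 h1]
    · rw [hp_iff k g hG] at hψ
      rw [hψ]
      exact w4_of_redLE h1 hαP h2
  · -- independence
    rw [Fintype.linearIndependent_iff]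
    let V' : Submodule k (Fin a → k) := LinearMap.ker (secL QQ S)
    obtain ⟨F, hF, hFV⟩ := exists_gsub S (q := QQ) hE.1 V'
    have hle : F ≤ ⊥ := gsub_le S hE.1 hS hF hFV (isQCoh_cokernel_bot hE.1) fun u hu i => by
      have h1 : secL QQ S u = 0 := hu
      have h2 : (secL QQ S u).1 i = 0 := by rw [h1]; rfl
      rw [Fga.QT5.mem_secSub_bot]
      exact h2
    have hFb : F = ⊥ := le_bot_iff.1 hle
    have h5 := kingα V' F hF hFV
    rw [hFb, hp_bot hE, K847.PolyOrd.alpha_zero, mul_zero] at h5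
    have h6 : Module.finrank k V' = 0 := by
      have : (Module.finrank k V' : ℚ) ≤ 0 := by
        by_contra hcon
        rw [not_le] at hcon
        have := mul_pos hcon hαP
        linarith
      have : Module.finrank k V' ≤ 0 := by exact_mod_cast this
      omega
    have h7 : V' = ⊥ := Submodule.finrank_eq_zero.1 h6
    intro u hu j
    have h8 : u ∈ V' := by
      refine Subtype.ext ?_
      change sgL QQ S (cst u) = 0
      rw [hSdef, sgL_cst]
      exact hu
    rw [h7, Submodule.mem_bot] at h8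
    rw [h8]
    rfl

/-- **The Kronecker module of a frame of a semistable sheaf satisfies King's condition.** -/
theorem isSS_of_ssh (hest : Est k n N P) (D : Dat k n a N e₁ P Φ s) (ha : (a : ℚ) = P.eval (N : ℚ)) (hP0 : P ≠ 0)
    {e : ℕ} (he : e₁ ≤ e) (hb : (b : ℚ) = P.eval ((N + e : ℕ) : ℚ)) (hE : SSh k g P E)
    (v : Fin a → Sec g (Y ↘ Spec (CommRingCat.of k)) E) (w : Fin b → Sec g (Y ↘ Spec (CommRingCat.of k)) E)
    (α : Kr a b (hn n e) k) (hfr : IsFrame g (Y ↘ Spec (CommRingCat.of k)) E N e v w α)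
    (hgen : ∀ i, Submodule.span Γ(Y, V g i) (Set.range fun j => v j i) = ⊤) : K585.KronK.IsSS α := by
  have hnoeth := isNoetherian k g
  have hf := facts k g
  have hEc := hE.coh
  have hP : hpY k g E = P := ((hp_iff k g hEc P).1 hE.hp).symm
  set d := P.natDegree with hd
  have hαP : 0 < alpha d P := alpha_pos' hEc hP hP0
  have hEok : ok (hpY k g) d E := ⟨hEc, by rw [hP]⟩
  have hv : ∀ j, v j ∈ TwSec g QQ E N := fun j => by
    rw [← hfr.v_bas.span]
    exact Submodule.subset_span ⟨j, rfl⟩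
  set S := sysOf v hv with hSdef
  have hS : S.Gen := hgen
  have hbΦ : (b : ℤ) = Φ e := by
    have h1 := D.hΦ e
    rw [← hb] at h1
    exact_mod_cast h1.symm
  have hinj : Function.Injective (secL QQ S) := by
    rw [← LinearMap.ker_eq_bot, LinearMap.ker_eq_bot']
    intro u hu
    have h1 : sgL QQ S (cst u) = 0 := congrArg Subtype.val hu
    rw [hSdef, sgL_cst] at h1
    exact funext fun j => Fintype.linearIndependent_iff.1 hfr.v_bas.li u h1 j
  -- the relations
  have hrel : ∀ x ∈ Wd (Fin (n + 1)) (Fin a) k e, x ∈ grSub g QQ S (⊥ : Subobject E) ↔ alev α x = 0 := by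
    intro x hx
    rw [mem_grSub_bot_iff_sgL S hx]
    have h1 : sgL QQ S x = ∑ y, (alev α x) y • w y := by
      have h2 : sgL QQ S x = ∑ j, mulL g QQ E (x j) (v j) := by
        funext i
        rw [sec_sum_apply, sgL_apply, sg_apply]
        rfl
      have h4 : ∀ j, mulL g QQ E (x j) (v j) =
          ∑ l, MvPolynomial.coeff (mu n e l).1 (x j) • mulL g QQ E (MvPolynomial.monomial (mu n e l).1 1) (v j) := by
        intro j
        classical
        have h5 : x j = ∑ l, MvPolynomial.coeff (mu n e l).1 (x j) • MvPolynomial.monomial (mu n e l).1 (1 : k) := by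
          ext m
          rw [MvPolynomial.coeff_sum]
          simp only [MvPolynomial.coeff_smul, MvPolynomial.coeff_monomial, smul_eq_mul]
          by_cases hm : m.degree = e
          · rw [Finset.sum_eq_single ((mu n e).symm ⟨m, hm⟩)]
            · rw [Equiv.apply_symm_apply, if_pos rfl, mul_one]
            · intro l _ hl
              rw [if_neg, mul_zero]
              intro h
              apply hl
              rw [Equiv.eq_symm_apply]
              exact Subtype.ext h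
            · intro h
              exact absurd (Finset.mem_univ _) h
          · have h6 : MvPolynomial.coeff m (x j) = 0 := by
              by_contra hne
              apply hm
              have := hx j hne
              rw [← this, Finsupp.degree_eq_weight_one]
              rfl
            rw [h6]
            symm
            refine Finset.sum_eq_zero fun l _ => ?_
            rw [if_neg, mul_zero]
            intro h
            exact hm (h ▸ (mu n e l).2)
        funext i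
        rw [sec_sum_apply, mulL_apply]
        conv_lhs => rw [h5]
        rw [map_sum, Finset.sum_smul]
        refine Finset.sum_congr rfl fun l _ => ?_
        rw [sec_smul_apply, mulL_apply, MvPolynomial.smul_eq_C_mul, map_mul, ev_C, smul_smul]
      have hkr : ∀ l j, mulL g QQ E (MvPolynomial.monomial (mu n e l).1 1) (v j) = ∑ y, α l y j • w y := hfr.kr
      rw [h2, Finset.sum_congr rfl fun j _ => h4 j]
      simp_rw [hkr, Finset.smul_sum, smul_smul, alev_apply, Finset.sum_smul]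
      rw [Finset.sum_comm, Finset.sum_congr rfl fun l _ => Finset.sum_comm, Finset.sum_comm]
      refine Finset.sum_congr rfl fun y _ => Finset.sum_congr rfl fun l _ => Finset.sum_congr rfl fun j _ => ?_
      rw [mul_comm]
    rw [h1]
    constructor
    · intro h2
      exact funext fun y => Fintype.linearIndependent_iff.1 hfr.w_bas.li _ h2 y
    · intro h2
      rw [h2]
      simp
  intro V'
  have h1 := finrank_eq' (α := α) hrel V'
  obtain ⟨F, hF, hFV⟩ := exists_gsub S (q := QQ) hEc.1 V'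
  have hkey := D.iff hEc hP hS hF hFV he
  suffices hsuff : PolyLE ((Module.finrank k V' : ℚ) • P) ((a : ℚ) • hpY k g (F : Y.Modules)) by
    have h2 := hkey.2 hsuff
    rw [← h1, ← hbΦ, mul_comm] at h2
    exact_mod_cast h2
  have hFc := isCoh_sub k g hEc hF
  have hFok : ok (hpY k g) d (F : Y.Modules) :=
    ⟨hFc, (natDegree_le_of_mono hf F.arrow hFc hEc).trans hEok.2⟩
  have hmemF : ∀ u ∈ V', ∀ i, sc S QQ i u ∈ secSub F (V g i) := fun u hu i => sc_mem S hFV hu i
  have hPnn : PolyLE 0 P := by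
    rw [← hP]
    exact hp_nonneg hf hEc
  by_cases hF0 : IsZero (F : Y.Modules)
  · have h2 : F = ⊥ := by
      rw [eq_bot_iff]
      exact Subobject.le_of_comm 0 (by rw [zero_comp]; exact (hF0.eq_of_src _ _))
    have h3 : V' = ⊥ := by
      rw [eq_bot_iff]
      intro u hu
      have h4 : secL QQ S u = 0 := by
        apply Subtype.ext
        funext i
        have h5 := hmemF u hu i
        rw [h2, Fga.QT5.mem_secSub_bot] at h5
        exact h5
      exact (Submodule.mem_bot k).2 (hinj (h4.trans (map_zero _).symm))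
    rw [h3, finrank_bot, Nat.cast_zero, zero_smul]
    rw [hp_zero hf hF0, smul_zero]
    exact polyLE_refl _
  · -- submodules of `F`
    have hsubE : ∀ (G : Y.Modules) (ι : G ⟶ E), Mono ι → Coh.IsCoh G → ¬ IsZero G →
        0 < alpha d (hpY k g G) ∧ (hpY k g G).natDegree = d ∧ RedLE d (hpY k g G) P := by
      intro G ι hι hG hG0
      obtain ⟨h2, h3⟩ := hE.sub G ι hι hG hG0
      have hGok : ok (hpY k g) d G := ⟨hG, (natDegree_le_of_mono hf ι hG hEc).trans hEok.2⟩
      have h4 : (hpY k g G).natDegree = d := by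
        rw [hf.dim G hG hG0] at h2
        exact_mod_cast h2
      have h5 : 0 < alpha d (hpY k g G) := (alpha_pos_iff hf hGok hG0).2 h4
      refine ⟨h5, h4, Coherent.K51.LPS.redLE_of_W4 h5 hαP (h3 _ ((hp_iff k g hG _).2 rfl))⟩
    have hsub : SubLE k g (F : Y.Modules) d (hatSlope d P) := by
      intro G ι hι hG hG0
      obtain ⟨h2, h3, h4⟩ := hsubE G (ι ≫ F.arrow) (mono_comp _ _) hG hG0
      exact ⟨h3, hatSlope_le h3.le le_rfl h2 hαP h4⟩
    obtain ⟨h2, h3, h4⟩ := hsubE _ F.arrow inferInstance hFc hF0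
    have hαF : alpha d (hpY k g (F : Y.Modules)) ≤ alpha d P := by
      have h5 := hp_coker (k := k) (g := g) hEc hF
      have h6 := alpha_nonneg hf ((setup hf d d).ok_coker F.arrow hFok hEok)
      have h7 := congrArg (alpha d) h5
      rw [K847.PolyOrd.alpha_sub, hP] at h7
      linarith
    obtain ⟨h5, h6⟩ := hest Y g _ hFc hF0 hsub hαF
    have h7 : (Module.finrank k V' : ℚ) ≤ hilb g QQ (F : Y.Modules) N := by
      exact_mod_cast le_hilb_sub (k := k) hEc hF hinj hmemF
    rcases K847.PolyOrd.redLE_iff_lt_or_eq.1 h4 with hlt | heq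
    · have h8 := h6 hlt
      rw [← ha] at h8
      have h9 : (Module.finrank k V' : ℚ) * alpha d P < a * alpha d (hpY k g (F : Y.Modules)) := by
        have := mul_le_mul_of_nonneg_left h7 hαP.le
        linarith
      refine K847.PolyOrd.polyLE_of_polyLT (K847.PolyOrd.polyLT_of_coeff_lt (d := d)
        ((Polynomial.natDegree_smul_le _ _).trans le_rfl)
        ((Polynomial.natDegree_smul_le _ _).trans h3.le) ?_)
      rw [← K847.PolyOrd.alpha_lt_iff, K847.PolyOrd.alpha_smul, K847.PolyOrd.alpha_smul]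
      exact h9
    · have h8 := h5 heq
      rw [← ha] at h8
      rw [← K847.PolyOrd.polyLE_smul_iff hαP, smul_smul, smul_smul, mul_comm (alpha d P) (a : ℚ), ← smul_smul (a : ℚ)]
      unfold RedEq at heq
      rw [heq, smul_smul]
      have h9 : alpha d P * (Module.finrank k V' : ℚ) ≤ a * alpha d (hpY k g (F : Y.Modules)) := by
        have := mul_le_mul_of_nonneg_left h7 hαP.le
        linarith
      obtain ⟨M, hM⟩ := hPnn
      refine ⟨M, fun m hm => ?_⟩
      have h10 := hM m hm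
      rw [Polynomial.eval_zero] at h10
      rw [Polynomial.eval_smul, Polynomial.eval_smul, smul_eq_mul, smul_eq_mul]
      exact mul_le_mul_of_nonneg_right h9 h10

/-- The numerical function `Φ(m) = P(N + m)`. -/
theorem exists_num (hE : Coh.IsCoh E) (hP : hpY k g E = P) {S : GenSys g E (Fin a) N} (hS : S.Gen) :
    ∃ Φ : ℤ → ℤ, Fga.QA1.Num (n + 1) Φ ∧ ∀ m : ℕ, (Φ m : ℚ) = P.eval ((N + m : ℕ) : ℚ) := by
  obtain ⟨c, hc⟩ := K277.ChiHilb.num_chi k g hE
  obtain ⟨h1, h2⟩ := grSub_isHom_isSat g (Y ↘ Spec (CommRingCat.of k)) S (isQCoh_cokernel_bot hE.1)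
  obtain ⟨Ψ, hΨ, ⟨D1, hD1⟩, -⟩ := Fga.QA2.field_main h1 h2
  rw [Fintype.card_fin] at hΨ
  obtain ⟨D2, hD2⟩ := h_bot (k := k) hE hS
  have hsh : Fga.QA1.Num c (sh N (K277.ChiHilb.chi k g E)) := (num_sh_iff N c _).2 hc
  have hval : ∀ m : ℕ, ((sh N (K277.ChiHilb.chi k g E) m : ℤ) : ℚ) = P.eval ((N + m : ℕ) : ℚ) := by
    intro m
    rw [sh_apply, chi_eq_hp k g hE, hP]
    congr 1
    push_cast
    ring
  have heq : sh N (K277.ChiHilb.chi k g E) = Ψ := by
    refine (hsh.mono (le_max_left c (n + 1))).eq_of_eventually (hΨ.mono (le_max_right c (n + 1)))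
      ⟨((max D1 D2 : ℕ) : ℤ), fun m hm => ?_⟩
    obtain ⟨m, rfl⟩ : ∃ m' : ℕ, m = m' := ⟨m.toNat, by omega⟩
    have h3 := hval m
    rw [← hP, ← hD2 m (by omega), hD1 m (by omega)] at h3
    exact_mod_cast h3
  exact ⟨_, heq ▸ hΨ, hval⟩

end Main

/-- A basis of `H⁰(E(N))` generates if `E(N)` is generated by its sections. -/
theorem gen_of_bas {N' : ℕ} {k : Type u} [Field k] {n a : ℕ} {Y : Scheme.{u}} {q : Y ⟶ Spec (CommRingCat.of k)}
    {g : Y ⟶ PZ n} {E : Y.Modules} {v : Fin a → Sec g q E} (hv : IsBas (TwSec g q E N') v)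
    (h : ∀ i, Submodule.span Γ(Y, V g i) (Set.range fun s : TwSec g q E N' => s.1 i) = ⊤) (i : Fin (n + 1)) :
    Submodule.span Γ(Y, V g i) (Set.range fun j => v j i) = ⊤ := by
  rw [eq_top_iff, ← h i, Submodule.span_le]
  rintro _ ⟨t, rfl⟩
  have h2 : t.1 ∈ Submodule.span k (Set.range v) := by
    rw [hv.span]
    exact t.2
  obtain ⟨c, hc⟩ := (Submodule.mem_span_range_iff_exists_fun k).1 h2
  have h3 : t.1 i = ∑ j, (c j • v j) i := by
    rw [← hc, sec_sum_apply]
  change t.1 i ∈ _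
  rw [h3]
  refine Submodule.sum_mem _ fun j _ => ?_
  rw [sec_smul_apply]
  exact Submodule.smul_mem _ _ (Submodule.subset_span ⟨j, rfl⟩)

/-- The finiteness of the set of Hilbert polynomials (node HF). -/
def HF (k : Type u) [Field k] : Prop := ∀ (n a : ℕ) {Φ : ℤ → ℤ}, Fga.QA1.Num (n + 1) Φ →
    ∃ (s : Finset (ℤ → ℤ)) (e₀ : ℕ), (∀ Ψ ∈ s, Fga.QA1.Num (n + 1) Ψ) ∧
      ∀ L : Submodule (MvPolynomial (Fin (n + 1)) k) (W (Fin (n + 1)) (Fin a) k), IsHom L → IsSat L →
        (∃ D : ℕ, ∀ d : ℕ, D ≤ d → Fga.QA1.h L d = Φ d) →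
        ∀ V' : Submodule k (Fin a → k), ∃ Ψ ∈ s, ∀ d : ℕ, e₀ ≤ d →
          (Module.finrank k (WV (n := n) V' d) : ℤ) -
            Module.finrank k (WV (n := n) V' d ⊓ pc L d : Submodule k (W (Fin (n + 1)) (Fin a) k)) = Ψ d

/-- Generation of semistable sheaves (node REG). -/
def REG : Prop := ∀ (n : ℕ) (P : Polynomial ℚ), ∃ N₀ : ℕ, ∀ N : ℕ, N₀ ≤ N →
    ∀ (Y : Scheme.{0}) [Y.Over (Spec (CommRingCat.of ℂ))] (g : Y ⟶ PZ n)
      [IsClosedImmersion (toPA g (Y ↘ Spec (CommRingCat.of ℂ)))] (E : Y.Modules), SSh ℂ g P E → Rg ℂ g E N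

/-- **NODE MT.** -/
theorem mt_of (hHF : HF ℂ) (hREG : REG) (n : ℕ) (P : Polynomial ℚ) (hP : P ≠ 0) : ∃ N₀ : ℕ, ∀ N : ℕ, N₀ ≤ N →
    ∃ e₀ : ℕ, ∀ e : ℕ, e₀ ≤ e →
    ∀ a b : ℕ, (a : ℚ) = P.eval (N : ℚ) → (b : ℚ) = P.eval ((N + e : ℕ) : ℚ) →
    ∀ (Y : Scheme.{0}) [Y.Over (Spec (CommRingCat.of ℂ))] (g : Y ⟶ PZ n)
      [IsClosedImmersion (toPA g (Y ↘ Spec (CommRingCat.of ℂ)))] (E : Y.Modules), Coh.IsCoh E →
      (∀ m : ℤ, (Curv2.euler ℂ Y (twg g E m) : ℚ) = P.eval (m : ℚ)) →
      (∀ (v : Fin a → Sec g (Y ↘ Spec (CommRingCat.of ℂ)) E) (hv : ∀ j, v j ∈ TwSec g (Y ↘ Spec (CommRingCat.of ℂ)) E N),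
        (∀ i, Submodule.span Γ(Y, V g i) (Set.range fun j => v j i) = ⊤) → ∀ α : Kr a b (hn n e) ℂ,
        (∀ w ∈ Wd (Fin (n + 1)) (Fin a) ℂ e, sgL (Y ↘ Spec (CommRingCat.of ℂ)) (sysOf v hv) w = 0 → alev α w = 0) →
        K585.KronK.IsSS α → SSh ℂ g P E ∧ LinearIndependent ℂ v) ∧
      (SSh ℂ g P E → ∀ (v : Fin a → Sec g (Y ↘ Spec (CommRingCat.of ℂ)) E)
        (w : Fin b → Sec g (Y ↘ Spec (CommRingCat.of ℂ)) E) (α : Kr a b (hn n e) ℂ),
        IsFrame g (Y ↘ Spec (CommRingCat.of ℂ)) E N e v w α → K585.KronK.IsSS α) := by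
  by_cases hpos : 0 < alpha P.natDegree P
  swap
  · refine ⟨0, fun N _ => ⟨0, fun e _ a b _ _ Y _ g _ E hE hEP => ?_⟩⟩
    exact absurd (alpha_pos' (k := ℂ) (g := g) hE ((hp_iff ℂ g hE P).1 hEP).symm hP) hpos
  obtain ⟨N₁, hN₁⟩ := SimpUnif.unifY.{0} n P hpos
  obtain ⟨N₂, hN₂⟩ := hREG n P
  obtain ⟨N₃, hN₃⟩ : ∃ N₃ : ℕ, ∀ m : ℕ, N₃ ≤ m → 0 < P.eval (m : ℚ) := by
    refine K847.PolyOrd.exists_forall_pos ?_
    unfold alpha at hpos
    exact (pos_iff_pos_of_mul_pos hpos).1 (by positivity)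
  refine ⟨max N₁ (max N₂ N₃), fun N hN => ?_⟩
  have hest : Est ℂ n N P := fun Y _ g _ G => hN₁ N (by omega) ℂ Y g G
  by_cases hex : (∃ a : ℕ, (a : ℚ) = P.eval (N : ℚ)) ∧
      ∃ Φ : ℤ → ℤ, Fga.QA1.Num (n + 1) Φ ∧ ∀ m : ℕ, (Φ m : ℚ) = P.eval ((N + m : ℕ) : ℚ)
  · obtain ⟨⟨a₀, ha₀⟩, Φ, hΦ, hΦP⟩ := hex
    obtain ⟨s, e₀, hs, hfin⟩ := hHF n a₀ hΦ
    obtain ⟨e₁, he₁⟩ := SimpNum.exists_stable s hs hΦ a₀
    refine ⟨max e₀ e₁, fun e he a b ha hb Y _ g _ E hE hEP => ?_⟩
    obtain rfl : a = a₀ := by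
      have : (a : ℚ) = a₀ := ha.trans ha₀.symm
      exact_mod_cast this
    have D : Dat ℂ n a N (max e₀ e₁) P Φ s := ⟨hΦP, fun Ψ hΨ j hj e e' h1 h2 h3 =>
      he₁ Ψ hΨ j hj e e' (by omega) (by omega) h3, fun L h1 h2 h3 V' => by
        obtain ⟨Ψ, hΨ, h4⟩ := hfin L h1 h2 h3 V'
        exact ⟨Ψ, hΨ, fun d hd => h4 d (by omega)⟩⟩
    have hEP' : hpY ℂ g E = P := ((hp_iff ℂ g hE P).1 hEP).symm
    refine ⟨fun v hv hgen α hα hss => ?_, fun hssh v w α hfr => ?_⟩
    · exact ssh_of_isSS hest D ha hP he hb (by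
        have := hN₃ (N + e) (by omega)
        rw [← hb] at this
        exact_mod_cast this) hE hEP' v hv hgen α hα hss
    · exact isSS_of_ssh hest D ha hP he hb hssh v w α hfr
        (gen_of_bas hfr.v_bas ((hN₂ N (by omega) Y g E hssh).gen N le_rfl))
  · refine ⟨0, fun e _ a b ha hb Y _ g _ E hE hEP => ?_⟩
    have hEP' : hpY ℂ g E = P := ((hp_iff ℂ g hE P).1 hEP).symm
    refine ⟨fun v hv hgen α hα hss => ?_, fun hssh v w α hfr => ?_⟩
    · exact absurd ⟨⟨a, ha⟩, exists_num hE hEP' (S := sysOf v hv) hgen⟩ hex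
    · have hv : ∀ j, v j ∈ TwSec g (Y ↘ Spec (CommRingCat.of ℂ)) E N := fun j => by
        rw [← hfr.v_bas.span]
        exact Submodule.subset_span ⟨j, rfl⟩
      exact absurd ⟨⟨a, ha⟩, exists_num hE hEP' (S := sysOf v hv)
        (gen_of_bas hfr.v_bas ((hN₂ N (by omega) Y g E hssh).gen N le_rfl))⟩ hex

end K92.SimpMT
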