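import Groth.Agent.Coherent.K92.SimpMT
import Groth.Agent.Coherent.K788.HilbFin
import Groth.Agent.Coherent.K569.Reg

/-!
# Simpson moduli, node MT

`mt`: GIT-semistable Kronecker modules are those of semistable sheaves.
-/

set_option autoImplicit false

open CategoryTheory CategoryTheory.Limits AlgebraicGeometry MvPolynomial

namespace K92.SimpFin

open Groth.Agent Fga.QTDefs Fga.QT8 Fga.QT4b Fga.QA0 K585.KronK K585.Defs

/-- NODE MT. GIT-semistable Kronecker modules are those of semistable sheaves. `a = P(N)`, `b = P(N + e)`.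
First part: `E` any coherent sheaf with Hilbert polynomial `P` and `a` sections `v` generating `E(N)`, `α` a Kronecker module
which kills the relations of degree `e` between the `v_j`; if `α` satisfies King's condition then `E` is semistable and the
`v_j` are independent. Second part: the Kronecker module of a frame of a semistable sheaf satisfies King's condition. -/
theorem mt (n : ℕ) (P : Polynomial ℚ) (hP : P ≠ 0) : ∃ N₀ : ℕ, ∀ N : ℕ, N₀ ≤ N → ∃ e₀ : ℕ, ∀ e : ℕ, e₀ ≤ e →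
    ∀ a b : ℕ, (a : ℚ) = P.eval (N : ℚ) → (b : ℚ) = P.eval ((N + e : ℕ) : ℚ) →
    ∀ (Y : Scheme.{0}) [Y.Over (Spec (CommRingCat.of ℂ))] (g : Y ⟶ PZ n)
      [IsClosedImmersion (toPA g (Y ↘ Spec (CommRingCat.of ℂ)))] (E : Y.Modules), Coh.IsCoh E →
      (∀ m : ℤ, (Curv2.euler ℂ Y (twg g E m) : ℚ) = P.eval (m : ℚ)) →
      (∀ (v : Fin a → Sec g (Y ↘ Spec (CommRingCat.of ℂ)) E) (hv : ∀ j, v j ∈ TwSec g (Y ↘ Spec (CommRingCat.of ℂ)) E N),
        (∀ i, Submodule.span Γ(Y, V g i) (Set.range fun j => v j i) = ⊤) → ∀ α : Kr a b (hn n e) ℂ,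
        (∀ w ∈ Wd (Fin (n + 1)) (Fin a) ℂ e, sgL (Y ↘ Spec (CommRingCat.of ℂ)) (sysOf v hv) w = 0 → alev α w = 0) →
        IsSS α → SSh ℂ g P E ∧ LinearIndependent ℂ v) ∧
      (SSh ℂ g P E → ∀ (v : Fin a → Sec g (Y ↘ Spec (CommRingCat.of ℂ)) E)
        (w : Fin b → Sec g (Y ↘ Spec (CommRingCat.of ℂ)) E) (α : Kr a b (hn n e) ℂ),
        IsFrame g (Y ↘ Spec (CommRingCat.of ℂ)) E N e v w α → IsSS α) :=
  SimpMT.mt_of (fun n a _ hΦ => K788.HilbFin.hilbFin ℂ n a hΦ) Coherent.K569.Reg.reg n P hP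

end K92.SimpFin
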