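import Groth.Agent.Coherent.K51.Simp
import Groth.Agent.ShStab.K846.HilbPush
import Groth.Agent.ShStab.K849.HilbFacts
import Groth.Agent.ShStab.K846.Ascent
import Groth.Agent.ShStab.K846.ClPush
import Groth.Agent.Coherent.K585.Defs

/-!
# Simpson moduli, node MT: Hilbert polynomials on `Y` closed in `P^n_k`, and the uniform estimate

* `hpY k g G`: the Hilbert polynomial of `G` with respect to `g^* O(1)`; `facts`: its properties;
* `hp_iff`: `χ(G(m)) = ψ(m)` for all `m` iff `ψ = hpY k g G`; `hilb_eq`: `dim H⁰(G(m))` for large `m`;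
* `sub_push`: submodules of a direct image;
* `unifY`: the uniform estimate of `K51.Simp.unif` for modules on `Y`.
-/

set_option autoImplicit false

universe u

open CategoryTheory CategoryTheory.Limits AlgebraicGeometry Polynomial

namespace K92.SimpHp

open Groth.Agent Fga.QTDefs Fga.QT8 Fga.QT4b StabCat K277.ChiHilb

section

variable (k : Type u) [Field k] {n : ℕ} {Y : Scheme.{u}} [Y.Over (Spec (CommRingCat.of k))] (g : Y ⟶ PZ n)

/-- `g^* O(1)` -/
noncomputable abbrev O1 : Y.Modules := (Scheme.Modules.pullback g).obj (Twist.twistProjSpace n (ULift.{u} ℤ) 1)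

/-- The Hilbert polynomial. -/
noncomputable abbrev hpY (G : Y.Modules) : ℚ[X] := K846.Gies.hp k (O1 g) G

/-- the direct image in `P^n_k` -/
noncomputable abbrev pu (G : Y.Modules) : (CohB1.ProjSpace n k).Modules := (Scheme.Modules.pushforward (emb k g)).obj G

variable [IsClosedImmersion (toPA g (Y ↘ Spec (CommRingCat.of k)))]

include g in
theorem isProper : IsProper (Y ↘ Spec (CommRingCat.of k)) := by
  rw [← emb_toSpec k g]
  have : IsProper (CohB1.ProjSpace.toSpec n k) := VarietyB.ProjSpaceProper.isProper_toSpec n k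
  infer_instance

include k in
theorem isAmple_O1 : CohB1.IsAmple (O1 g) :=
  CohqB.AmpCocycle.isAmple_of_iso (embTwist k g 1)
    (K846.Ascent.isAmple_pullback (emb k g) (VarietyA.AmpleField.isAmple_twistProjSpace n k))

include k g in
theorem isNoetherian : IsNoetherian Y := by
  have := isProper k g
  exact Fga.IntAdd.isNoetherian k Y

theorem facts : K849.Inst.HilbFacts k Y (O1 g) (hpY k g) := by
  have := isProper k g
  exact K849.HilbFacts.inst k Y (isAmple_O1 k g)

theorem chi_eq_hp {G : Y.Modules} (hG : Coh.IsCoh G) (m : ℤ) : (chi k g G m : ℚ) = (hpY k g G).eval (m : ℚ) :=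
  (K846.HilbChi.isHilbPoly_iff (k := k) (g := g) (Iso.refl _) hG _).1 ((facts k g).spec G hG) m

theorem hp_iff {G : Y.Modules} (hG : Coh.IsCoh G) (ψ : ℚ[X]) :
    (∀ m : ℤ, (Curv2.euler k Y (K585.Defs.twg g G m) : ℚ) = ψ.eval (m : ℚ)) ↔ ψ = hpY k g G := by
  rw [← (facts k g).isHilbPoly_iff hG, K846.HilbChi.isHilbPoly_iff (k := k) (g := g) (Iso.refl _) hG]
  refine forall_congr' fun m => ?_
  rw [K846.HilbChi.chi_eq k g hG.1]
  rfl

theorem hilb_eq {G : Y.Modules} (hG : Coh.IsCoh G) : ∃ D : ℕ, ∀ d : ℕ, D ≤ d →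
    (hilb g (Y ↘ Spec (CommRingCat.of k)) G d : ℚ) = (hpY k g G).eval (d : ℚ) := by
  obtain ⟨D, hD⟩ := chi_eq_hilb k g hG
  refine ⟨D, fun d hd => ?_⟩
  have h1 := chi_eq_hp k g hG (d : ℤ)
  rw [hD d hd] at h1
  exact_mod_cast h1

theorem HP_push {G : Y.Modules} (hG : Coh.IsCoh G) :
    Coherent.K51.Klm.HP k n (pu k g G) (hpY k g G) :=
  K846.HilbPush.hp_push (k := k) (g := g) (Iso.refl _) hG ((facts k g).spec G hG)

theorem isCoh_push {G : Y.Modules} (hG : Coh.IsCoh G) : Coh.IsCoh (pu k g G) :=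
  ⟨CohqA.AffPush.isQCoh_push (emb k g) G hG.1, CohqA.AffPush.isFT_push (emb k g) G hG.1 hG.2⟩

theorem nonempty_H_equiv (G : Y.Modules) (m : ℕ) :
    Nonempty (K244.RegSeq.H k n (pu k g G) (m : ℤ) 0 ≃ₗ[k] TwSec g (Y ↘ Spec (CommRingCat.of k)) G m) := by
  have e1 := CurvesC.CurveNum.hhPushₗ k (emb k g) (emb_toSpec k g)
    (CohB1.tensorMod G ((Scheme.Modules.pullback (emb k g)).obj (Twist.twistProjSpace n k (m : ℤ)))) 0
  have e2 := Fga.EulerIso.HHequiv k (pushTwist k (i := emb k g) G (m : ℤ)) 0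
  have e3 := Fga.EulerIso.HHequiv k (twIso k g G (m : ℤ)) 0
  have e4 := K277.TwSecIso.hhEquiv (A := k) G (K277.Frames.TwFr.of g (m : ℤ))
  exact ⟨e2.symm.trans (e1.symm.trans (e3.trans e4))⟩

theorem finrank_H_push (G : Y.Modules) (m : ℕ) :
    Module.finrank k (K244.RegSeq.H k n (pu k g G) (m : ℤ) 0) = hilb g (Y ↘ Spec (CommRingCat.of k)) G m :=
  (nonempty_H_equiv k g G m).some.finrank_eq

theorem finite_TwSec {G : Y.Modules} (hG : Coh.IsCoh G) (m : ℕ) :
    Module.Finite k (TwSec g (Y ↘ Spec (CommRingCat.of k)) G m) := by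
  have h1 := K244.RegSeq.finite_H k n (isCoh_push k g hG) (m : ℤ) 0
  exact Module.Finite.equiv (nonempty_H_equiv k g G m).some

/-- Submodules of direct images. -/
theorem sub_push {G : Y.Modules} {F : (CohB1.ProjSpace n k).Modules} (ι : F ⟶ pu k g G) [Mono ι]
    (hF : Coh.IsCoh F) (h0 : ¬ IsZero F) :
    ∃ (F' : Y.Modules) (κ : F' ⟶ G), Mono κ ∧ Coh.IsCoh F' ∧ ¬ IsZero F' ∧ Nonempty (F ≅ pu k g F') := by
  have h1 : IsIso ((CycB.ClosedDev.ηη (emb k g)).app F) := K846.ClPush.isIso_unit_of_mono ι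
  have := CohqA.ClosedPush.full (i := emb k g)
  have := CohqA.ClosedPush.faithful (i := emb k g)
  let ψ : (Scheme.Modules.pullback (emb k g)).obj F ⟶ G :=
    ((Scheme.Modules.pullbackPushforwardAdjunction (emb k g)).homEquiv F G).symm ι
  have hψ : (CycB.ClosedDev.ηη (emb k g)).app F ≫ (Scheme.Modules.pushforward (emb k g)).map ψ = ι := by
    have := (Scheme.Modules.pullbackPushforwardAdjunction (emb k g)).homEquiv_unit (X := F) (Y := G) (f := ψ)
    rw [Equiv.apply_symm_apply] at this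
    exact this.symm
  have h3 : Mono ((Scheme.Modules.pushforward (emb k g)).map ψ) := by
    have e : (Scheme.Modules.pushforward (emb k g)).map ψ = inv ((CycB.ClosedDev.ηη (emb k g)).app F) ≫ ι := by
      rw [← hψ, IsIso.inv_hom_id_assoc]
    rw [e]
    exact mono_comp _ _
  have h4 : Mono ψ := (Scheme.Modules.pushforward (emb k g)).mono_of_mono_map h3
  have hF' : Coh.IsCoh ((Scheme.Modules.pullback (emb k g)).obj F) := FormalA.PullbackQC.isCoh_pullback _ _ hF
  have e : F ≅ (Scheme.Modules.pushforward (emb k g)).obj ((Scheme.Modules.pullback (emb k g)).obj F) :=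
    @asIso _ _ _ _ ((CycB.ClosedDev.ηη (emb k g)).app F) h1
  exact ⟨_, ψ, h4, hF', fun h => h0 (((Scheme.Modules.pushforward (emb k g)).map_isZero h).of_iso e), ⟨e⟩⟩

variable {k g}

/-- All nonzero coherent submodules have dimension `d` and slope at most `b`. -/
def SubLE (k : Type u) [Field k] {n : ℕ} {Y : Scheme.{u}} [Y.Over (Spec (CommRingCat.of k))] (g : Y ⟶ PZ n)
    (G : Y.Modules) (d : ℕ) (b : ℚ) : Prop :=
  ∀ (F : Y.Modules) (ι : F ⟶ G), Mono ι → Coh.IsCoh F → ¬ IsZero F →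
    (hpY k g F).natDegree = d ∧ hatSlope d (hpY k g F) ≤ b

theorem cls_push {G : Y.Modules} (hG : Coh.IsCoh G) (h0 : ¬ IsZero G) {d r : ℕ} {b : ℚ} (h : SubLE k g G d b)
    (hr : alpha d (hpY k g G) ≤ r) : Coherent.K51.LPS.Cls k n d r b (pu k g G) (hpY k g G) := by
  have hf := facts k g
  refine ⟨isCoh_push k g hG, HP_push k g hG, ?_, hr, fun F ι hι hF hF0 => ?_⟩
  · rw [K846.ClPush.dim_support_push, hf.dim G hG h0, (h G (𝟙 G) inferInstance hG h0).1]
  · obtain ⟨F', κ, hκ, hF', hF0', ⟨e⟩⟩ := sub_push k g ι hF hF0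
    obtain ⟨h1, h2⟩ := h F' κ hκ hF' hF0'
    refine ⟨?_, fun ψ hψ => ?_⟩
    · rw [CohqB.DevSupport.support_congr e, K846.ClPush.dim_support_push, hf.dim F' hF' hF0', h1]
    · have h3 : ψ = hpY k g F' := by
        have h4 : Coherent.K51.Klm.HP k n F (hpY k g F') :=
          K847.GL.HP_congr (k := k) e.symm (HP_push k g hF')
        exact hψ.unique h4
      rw [h3]
      exact h2

end

end K92.SimpHp
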