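import Groth.Agent.Fga.QA1
import Groth.Agent.ShStab.K847.PolyOrd

/-!
# Simpson moduli, node MT: numerical lemmas

* `num_sign`: a numerical function is eventually `≥ 0` or eventually `< 0`;
* `exists_stable`: for a finite set of numerical functions `Ψ` and `j ≤ a`, the truth of `j Φ(e) ≤ a Ψ(e)` does not
  depend on `e ≥ e₁`;
* `king_iff`: it is equivalent to the comparison of the polynomials.
-/

set_option autoImplicit false

open Polynomial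

namespace K92.SimpNum

open Groth.Agent.Fga.QA1 StabCat

lemma num_mul {c : ℕ} (x : ℤ) : ∀ {Φ : ℤ → ℤ}, Num c Φ → Num c (fun d => x * Φ d) := by
  induction c with
  | zero => intro Φ h d; change x * Φ d = 0; rw [h d, mul_zero]
  | succ c ih =>
    intro Φ h
    change Num c (nab fun d => x * Φ d)
    have : nab (fun d => x * Φ d) = fun d => x * nab Φ d := by
      funext d; simp only [nab]; ring
    rw [this]
    exact ih h

lemma num_sign {c : ℕ} : ∀ {Φ : ℤ → ℤ}, Num c Φ →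
    (∃ D : ℕ, ∀ d : ℕ, D ≤ d → 0 ≤ Φ d) ∨ ∃ D : ℕ, ∀ d : ℕ, D ≤ d → Φ d < 0 := by
  induction c with
  | zero => intro Φ h; exact Or.inl ⟨0, fun d _ => (h d).ge⟩
  | succ c ih =>
    intro Φ h
    rcases ih (show Num c (nab Φ) from h) with ⟨D, hD⟩ | ⟨D, hD⟩
    · have hstep : ∀ d : ℕ, D ≤ d → Φ d ≤ Φ ((d + 1 : ℕ) : ℤ) := by
        intro d hd
        have h1 := hD (d + 1) (by omega)
        simp only [nab] at h1
        have h2 : ((d + 1 : ℕ) : ℤ) - 1 = d := by push_cast; ring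
        rw [h2] at h1
        linarith
      have hmono : ∀ d : ℕ, D ≤ d → ∀ t : ℕ, Φ d ≤ Φ ((d + t : ℕ) : ℤ) := by
        intro d hd t
        induction t with
        | zero => exact le_rfl
        | succ t iht => exact iht.trans (hstep (d + t) (by omega))
      by_cases hex : ∃ d₀ : ℕ, D ≤ d₀ ∧ 0 ≤ Φ d₀
      · obtain ⟨d₀, h1, h2⟩ := hex
        refine Or.inl ⟨d₀, fun d hd => ?_⟩
        obtain ⟨t, rfl⟩ := Nat.exists_eq_add_of_le hd
        exact h2.trans (hmono d₀ h1 t)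
      · refine Or.inr ⟨D, fun d hd => ?_⟩
        by_contra hcon
        exact hex ⟨d, hd, not_lt.1 hcon⟩
    · have hstep : ∀ d : ℕ, D ≤ d → Φ ((d + 1 : ℕ) : ℤ) ≤ Φ d - 1 := by
        intro d hd
        have h1 := hD (d + 1) (by omega)
        simp only [nab] at h1
        have h2 : ((d + 1 : ℕ) : ℤ) - 1 = d := by push_cast; ring
        rw [h2] at h1
        omega
      have hmono : ∀ t : ℕ, Φ ((D + t : ℕ) : ℤ) ≤ Φ D - t := by
        intro t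
        induction t with
        | zero => simp
        | succ t iht =>
          have h1 := hstep (D + t) (by omega)
          have h2 : ((D + (t + 1) : ℕ) : ℤ) = ((D + t + 1 : ℕ) : ℤ) := rfl
          rw [h2]
          push_cast at *
          linarith
      refine Or.inr ⟨D + (Φ D).toNat + 1, fun d hd => ?_⟩
      obtain ⟨t, rfl⟩ := Nat.exists_eq_add_of_le (show D ≤ d by omega)
      have h1 := hmono t
      have h2 : Φ D ≤ (Φ D).toNat := Int.self_le_toNat _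
      omega

/-- The truth of `j Φ(e) ≤ a Ψ(e)` does not depend on `e ≥ e₁`. -/
theorem exists_stable {c : ℕ} (s : Finset (ℤ → ℤ)) (hs : ∀ Ψ ∈ s, Num c Ψ) {Φ : ℤ → ℤ} (hΦ : Num c Φ) (a : ℕ) :
    ∃ e₁ : ℕ, ∀ Ψ ∈ s, ∀ j ≤ a, ∀ e e' : ℕ, e₁ ≤ e → e₁ ≤ e' →
      ((j : ℤ) * Φ e ≤ a * Ψ e) → ((j : ℤ) * Φ e' ≤ a * Ψ e') := by
  classical
  have key : ∀ Ψ ∈ s, ∀ j : ℕ, ∃ D : ℕ, ∀ e e' : ℕ, D ≤ e → D ≤ e' →
      ((j : ℤ) * Φ e ≤ a * Ψ e) → ((j : ℤ) * Φ e' ≤ a * Ψ e') := by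
    intro Ψ hΨ j
    have h1 : Num c (fun d => (a : ℤ) * Ψ d - (j : ℤ) * Φ d) := (num_mul (a : ℤ) (hs Ψ hΨ)).sub (num_mul (j : ℤ) hΦ)
    rcases num_sign h1 with ⟨D, hD⟩ | ⟨D, hD⟩
    · exact ⟨D, fun e e' _ he' _ => by have := hD e' he'; linarith⟩
    · exact ⟨D, fun e e' he _ h => by have := hD e he; linarith⟩
  choose! D hD using key
  refine ⟨s.sup fun Ψ => (Finset.range (a + 1)).sup fun j => D Ψ j, fun Ψ hΨ j hj e e' he he' => ?_⟩
  have h1 : D Ψ j ≤ s.sup fun Ψ => (Finset.range (a + 1)).sup fun j => D Ψ j :=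
    (Finset.le_sup (f := fun j => D Ψ j) (Finset.mem_range.2 (Nat.lt_succ_of_le hj))).trans
      (Finset.le_sup (f := fun Ψ => (Finset.range (a + 1)).sup fun j => D Ψ j) hΨ)
  exact hD Ψ hΨ j e e' (h1.trans he) (h1.trans he')

/-- Comparison with polynomials. -/
theorem king_iff {Φ Ψ : ℤ → ℤ} {a j N e₁ : ℕ}
    (h : ∀ e e' : ℕ, e₁ ≤ e → e₁ ≤ e' → ((j : ℤ) * Φ e ≤ a * Ψ e) → ((j : ℤ) * Φ e' ≤ a * Ψ e'))
    {P F : ℚ[X]} (hP : ∀ e : ℕ, (Φ e : ℚ) = P.eval ((N + e : ℕ) : ℚ))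
    (hF : ∃ D : ℕ, ∀ e : ℕ, D ≤ e → (Ψ e : ℚ) = F.eval ((N + e : ℕ) : ℚ)) {e : ℕ} (he : e₁ ≤ e) :
    (j : ℤ) * Φ e ≤ a * Ψ e ↔ PolyLE ((j : ℚ) • P) ((a : ℚ) • F) := by
  obtain ⟨D, hD⟩ := hF
  have hcast : ∀ e' : ℕ, D ≤ e' → ((j : ℤ) * Φ e' ≤ a * Ψ e' ↔
      ((j : ℚ) • P).eval ((N + e' : ℕ) : ℚ) ≤ ((a : ℚ) • F).eval ((N + e' : ℕ) : ℚ)) := by
    intro e' he'
    rw [eval_smul, eval_smul, smul_eq_mul, smul_eq_mul, ← hP, ← hD e' he']
    norm_cast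
  constructor
  · intro h1
    refine ⟨N + max D e₁, fun m hm => ?_⟩
    obtain ⟨e', rfl⟩ := Nat.exists_eq_add_of_le (show N ≤ m by omega)
    exact (hcast e' (by omega)).1 (h e e' he (by omega) h1)
  · rintro ⟨M, hM⟩
    have h2 : (j : ℤ) * Φ ((max D (max e₁ M) : ℕ) : ℤ) ≤ a * Ψ ((max D (max e₁ M) : ℕ) : ℤ) :=
      (hcast _ (by omega)).2 (hM _ (by omega))
    exact h _ e (by omega) he h2

end K92.SimpNum
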