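import Groth.Agent.Coherent.K92.SimpHp
import Groth.Agent.Coherent.K92.SimpSub
import Groth.Agent.Coherent.K92.SimpNum
import Groth.Agent.ShStab.K846.QClosed

/-!
# Simpson moduli, node MT: King's condition and Hilbert polynomials of subsheaves

* `hp_sub`, `isCoh_sub`: a submodule with quasi-coherent cokernel;
* `hp_gsub`: the Hilbert polynomial of the subsheaf generated by a space of sections;
* `map_alev`, `finrank_map`: the image of `V' ⊗ S_e` under a Kronecker module;
* `Dat`: the numerical choices; `Dat.iff`: King's inequality for `V'` is the comparison of `dim V' · P` and `a · P_F`.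
-/

set_option autoImplicit false

universe u

open CategoryTheory CategoryTheory.Limits AlgebraicGeometry

namespace K92.SimpKey

open Groth.Agent Fga.QA0 Fga.QTDefs Fga.QT8 Fga.QT4b Fga.QT5 StabCat K92.SimpHp K92.SimpSub K585.Defs K585.KronK

section Sub

variable {k : Type u} [Field k] {n : ℕ} {Y : Scheme.{u}} [Y.Over (Spec (CommRingCat.of k))] {g : Y ⟶ PZ n}
  [IsClosedImmersion (toPA g (Y ↘ Spec (CommRingCat.of k)))] {E : Y.Modules}

theorem isCoh_coker (hE : Coh.IsCoh E) {F : Subobject E} (hF : Coh.IsQCoh (cokernel F.arrow)) :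
    Coh.IsCoh (cokernel F.arrow) := ⟨hF, CohqB.FiniteType.IsFT.of_epi hE.2 (cokernel.π F.arrow)⟩

variable (k g) in
include k g in
theorem isCoh_sub (hE : Coh.IsCoh E) {F : Subobject E} (hF : Coh.IsQCoh (cokernel F.arrow)) :
    Coh.IsCoh (F : Y.Modules) := by
  have := isNoetherian k g
  have h1 : Coh.IsCoh (kernel (cokernel.π F.arrow)) := Sga67.CohBasic.isCoh_kernel _ hE hF
  exact Sga67.CohBasic.isCoh_of_iso (asIso (Abelian.factorThruImage F.arrow)).symm h1

theorem hp_coker (hE : Coh.IsCoh E) {F : Subobject E} (hF : Coh.IsQCoh (cokernel F.arrow)) :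
    hpY k g (cokernel F.arrow) = hpY k g E - hpY k g (F : Y.Modules) := by
  have h1 := (facts k g).add _ (K849.Abs.Setup.shortExact_coker F.arrow) (isCoh_sub k g hE hF) hE (isCoh_coker hE hF)
  rw [eq_sub_iff_add_eq, add_comm]
  exact h1.symm

variable {a N : ℕ} {S : GenSys g E (Fin a) N}

/-- The Hilbert function of a quotient. -/
theorem h_grSub (hE : Coh.IsCoh E) (hS : S.Gen) {F : Subobject E} (hF : Coh.IsQCoh (cokernel F.arrow)) :
    ∃ D : ℕ, ∀ d : ℕ, D ≤ d → (Fga.QA1.h (grSub g (Y ↘ Spec (CommRingCat.of k)) S F) d : ℚ) =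
      (hpY k g E - hpY k g (F : Y.Modules)).eval ((N + d : ℕ) : ℚ) := by
  obtain ⟨h1, h2⟩ := grSub_isHom_isSat g (Y ↘ Spec (CommRingCat.of k)) S hF
  obtain ⟨Ψ, -, -, h3⟩ := Fga.QA2.field_main h1 h2
  obtain ⟨D, hD⟩ := hilb_eq k g (isCoh_coker hE hF)
  refine ⟨max D (Fga.QA1.bd (Fintype.card (Fin (n + 1))) Ψ), fun d hd => ?_⟩
  have h4 := hilb_cokernel_eq_of_H1 hE.1 hS hF (h3 d (le_of_max_le_right hd)).2.2
  rw [← hp_coker hE hF, add_comm N d, ← hD _ (by omega), ← h4]
  norm_cast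

theorem hp_bot (hE : Coh.IsCoh E) : hpY k g ((⊥ : Subobject E) : Y.Modules) = 0 := by
  have := isNoetherian k g
  exact K849.Inst.hp_zero (facts k g) ((isZero_zero _).of_iso Subobject.botCoeIsoZero)

/-- The Hilbert function of `E`. -/
theorem h_bot (hE : Coh.IsCoh E) (hS : S.Gen) :
    ∃ D : ℕ, ∀ d : ℕ, D ≤ d → (Fga.QA1.h (grSub g (Y ↘ Spec (CommRingCat.of k)) S (⊥ : Subobject E)) d : ℚ) =
      (hpY k g E).eval ((N + d : ℕ) : ℚ) := by
  obtain ⟨D, hD⟩ := h_grSub (k := k) hE hS (isQCoh_cokernel_bot hE.1)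
  exact ⟨D, fun d hd => by rw [hD d hd, hp_bot hE, sub_zero]⟩

/-- **The Hilbert polynomial of the subsheaf generated by `V'`.** -/
theorem hp_gsub (hE : Coh.IsCoh E) (hS : S.Gen) {V' : Submodule k (Fin a → k)} {F : Subobject E}
    (hF : Coh.IsQCoh (cokernel F.arrow)) (hFV : grSub g (Y ↘ Spec (CommRingCat.of k)) S F = KV S (Y ↘ Spec (CommRingCat.of k)) V') :
    ∃ D : ℕ, ∀ d : ℕ, D ≤ d → (((Module.finrank k (WV (n := n) V' d) : ℤ) -
        Module.finrank k (WV (n := n) V' d ⊓ pc (grSub g (Y ↘ Spec (CommRingCat.of k)) S (⊥ : Subobject E)) d :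
          Submodule k (W (Fin (n + 1)) (Fin a) k)) : ℤ) : ℚ) =
      (hpY k g (F : Y.Modules)).eval ((N + d : ℕ) : ℚ) := by
  obtain ⟨D1, h1⟩ := h_grSub (k := k) hE hS hF
  obtain ⟨D2, h2⟩ := h_bot (k := k) hE hS
  obtain ⟨D3, h3⟩ := finrank_eq (q := Y ↘ Spec (CommRingCat.of k)) S hE.1 V'
  refine ⟨max D1 (max D2 D3), fun d hd => ?_⟩
  rw [← h3 d (by omega), ← hFV, Int.cast_sub, h1 d (by omega), h2 d (by omega), Polynomial.eval_sub]
  ring

end Sub

section Kron

variable {k : Type u} [Field k] {n a b e : ℕ}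

/-- The image of `V' ⊗ S_e` under a Kronecker module. -/
theorem map_alev (α : Kr a b (hn n e) k) (V' : Submodule k (Fin a → k)) :
    (WV (n := n) V' e).map (alev α) = ⨆ l, V'.map (α l).mulVecLin := by
  classical
  apply le_antisymm
  · rintro _ ⟨w, hw, rfl⟩
    have h1 : alev α w = ∑ l, (α l).mulVecLin (fun j => MvPolynomial.coeff (mu n e l).1 (w j)) := by
      funext x
      rw [alev_apply, Finset.sum_apply]
      rfl
    rw [h1]
    exact Submodule.sum_mem _ fun l _ => Submodule.mem_iSup_of_mem l ⟨_, hw.2 _, rfl⟩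
  · refine iSup_le fun l => ?_
    rintro _ ⟨u, hu, rfl⟩
    refine ⟨fun j => MvPolynomial.monomial (mu n e l).1 (u j), ⟨fun j => ?_, fun m => ?_⟩, ?_⟩
    · exact MvPolynomial.isHomogeneous_monomial _ (mu n e l).2
    · by_cases hm : (mu n e l).1 = m
      · have : (fun j => MvPolynomial.coeff m (MvPolynomial.monomial (mu n e l).1 (u j))) = u := by
          funext j
          rw [MvPolynomial.coeff_monomial, if_pos hm]
        rw [this]
        exact hu
      · have : (fun j => MvPolynomial.coeff m (MvPolynomial.monomial (mu n e l).1 (u j))) = 0 := by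
          funext j
          rw [MvPolynomial.coeff_monomial, if_neg hm]
          rfl
        rw [this]
        exact zero_mem _
    · funext x
      rw [alev_apply, Finset.sum_eq_single l]
      · have h2 : ((α l).mulVecLin u) x = ∑ j, α l x j * u j := rfl
        rw [h2]
        refine Finset.sum_congr rfl fun j _ => ?_
        rw [MvPolynomial.coeff_monomial, if_pos rfl]
      · intro l' _ hl'
        refine Finset.sum_eq_zero fun j _ => ?_
        rw [MvPolynomial.coeff_monomial, if_neg, mul_zero]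
        intro h
        exact hl' ((mu n e).injective (Subtype.ext h)).symm
      · intro h
        exact absurd (Finset.mem_univ _) h

theorem finrank_map {M M' : Type*} [AddCommGroup M] [Module k M] [AddCommGroup M'] [Module k M'] (f : M →ₗ[k] M')
    (p : Submodule k M) [Module.Finite k p] : Module.finrank k (p.map f) + Module.finrank k (p ⊓ LinearMap.ker f :
      Submodule k M) = Module.finrank k p := by
  have h1 := LinearMap.finrank_range_add_finrank_ker (f.domRestrict p)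
  rw [LinearMap.range_domRestrict] at h1
  have h2 : LinearMap.ker (f.domRestrict p) = (p ⊓ LinearMap.ker f).comap p.subtype := by
    ext x
    rw [LinearMap.mem_ker, Submodule.mem_comap, Submodule.mem_inf]
    exact ⟨fun h => ⟨x.2, h⟩, fun h => h.2⟩
  rw [h2, (Submodule.comapSubtypeEquivOfLe (inf_le_left : p ⊓ LinearMap.ker f ≤ p)).finrank_eq] at h1
  exact h1

instance finite_WV (V' : Submodule k (Fin a → k)) (d : ℕ) : Module.Finite k (WV (n := n) V' d) :=
  Submodule.finiteDimensional_of_le (fun w hw => hw.1 : WV (n := n) V' d ≤ Wd (Fin (n + 1)) (Fin a) k d)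

/-- If `α` kills the relations. -/
theorem finrank_le {α : Kr a b (hn n e) k} {L : Submodule (MvPolynomial (Fin (n + 1)) k) (W (Fin (n + 1)) (Fin a) k)}
    (h : ∀ w ∈ pc L e, alev α w = 0) (V' : Submodule k (Fin a → k)) :
    (Module.finrank k (⨆ l, V'.map (α l).mulVecLin : Submodule k (Fin b → k)) : ℤ) ≤
      (Module.finrank k (WV (n := n) V' e) : ℤ) -
        Module.finrank k (WV (n := n) V' e ⊓ pc L e : Submodule k (W (Fin (n + 1)) (Fin a) k)) := by
  have h1 := finrank_map (alev α) (WV (n := n) V' e)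
  rw [map_alev] at h1
  have h2 : WV (n := n) V' e ⊓ pc L e ≤ WV (n := n) V' e ⊓ LinearMap.ker (alev α) :=
    inf_le_inf_left _ fun w hw => h w hw
  have : Module.Finite k (WV (n := n) V' e ⊓ LinearMap.ker (alev α) : Submodule k (W (Fin (n + 1)) (Fin a) k)) :=
    Submodule.finiteDimensional_of_le inf_le_left
  have h3 := Submodule.finrank_mono h2
  omega

/-- If the relations are the kernel. -/
theorem finrank_eq' {α : Kr a b (hn n e) k} {L : Submodule (MvPolynomial (Fin (n + 1)) k) (W (Fin (n + 1)) (Fin a) k)}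
    (h : ∀ w ∈ Wd (Fin (n + 1)) (Fin a) k e, w ∈ L ↔ alev α w = 0) (V' : Submodule k (Fin a → k)) :
    (Module.finrank k (⨆ l, V'.map (α l).mulVecLin : Submodule k (Fin b → k)) : ℤ) =
      (Module.finrank k (WV (n := n) V' e) : ℤ) -
        Module.finrank k (WV (n := n) V' e ⊓ pc L e : Submodule k (W (Fin (n + 1)) (Fin a) k)) := by
  have h1 := finrank_map (alev α) (WV (n := n) V' e)
  rw [map_alev] at h1
  have h2 : WV (n := n) V' e ⊓ pc L e = WV (n := n) V' e ⊓ LinearMap.ker (alev α) := by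
    ext w
    rw [Submodule.mem_inf, Submodule.mem_inf]
    exact ⟨fun hw => ⟨hw.1, (h w hw.1.1).1 hw.2.1⟩, fun hw => ⟨hw.1, (h w hw.1.1).2 hw.2, hw.1.1⟩⟩
  rw [h2]
  omega

end Kron

/-- The numerical choices. -/
structure Dat (k : Type u) [Field k] (n a N e₁ : ℕ) (P : Polynomial ℚ) (Φ : ℤ → ℤ) (s : Finset (ℤ → ℤ)) : Prop where
  hΦ : ∀ e : ℕ, (Φ e : ℚ) = P.eval ((N + e : ℕ) : ℚ)
  stab : ∀ Ψ ∈ s, ∀ j ≤ a, ∀ e e' : ℕ, e₁ ≤ e → e₁ ≤ e' → ((j : ℤ) * Φ e ≤ a * Ψ e) → ((j : ℤ) * Φ e' ≤ a * Ψ e')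
  fin : ∀ L : Submodule (MvPolynomial (Fin (n + 1)) k) (W (Fin (n + 1)) (Fin a) k), IsHom L → IsSat L →
    (∃ D : ℕ, ∀ d : ℕ, D ≤ d → Fga.QA1.h L d = Φ d) →
    ∀ V' : Submodule k (Fin a → k), ∃ Ψ ∈ s, ∀ d : ℕ, e₁ ≤ d →
      (Module.finrank k (WV (n := n) V' d) : ℤ) -
        Module.finrank k (WV (n := n) V' d ⊓ pc L d : Submodule k (W (Fin (n + 1)) (Fin a) k)) = Ψ d

section Main

variable {k : Type u} [Field k] {n a N e₁ : ℕ} {P : Polynomial ℚ} {Φ : ℤ → ℤ} {s : Finset (ℤ → ℤ)}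
  {Y : Scheme.{u}} [Y.Over (Spec (CommRingCat.of k))] {g : Y ⟶ PZ n}
  [IsClosedImmersion (toPA g (Y ↘ Spec (CommRingCat.of k)))] {E : Y.Modules}
  {S : GenSys g E (Fin a) N}

/-- **King's inequality and Hilbert polynomials.** -/
theorem Dat.iff (D : Dat k n a N e₁ P Φ s) (hE : Coh.IsCoh E) (hP : hpY k g E = P) (hS : S.Gen)
    {V' : Submodule k (Fin a → k)} {F : Subobject E} (hF : Coh.IsQCoh (cokernel F.arrow))
    (hFV : grSub g (Y ↘ Spec (CommRingCat.of k)) S F = KV S (Y ↘ Spec (CommRingCat.of k)) V') {e : ℕ} (he : e₁ ≤ e) :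
    (Module.finrank k V' : ℤ) * Φ e ≤ a * ((Module.finrank k (WV (n := n) V' e) : ℤ) -
        Module.finrank k (WV (n := n) V' e ⊓ pc (grSub g (Y ↘ Spec (CommRingCat.of k)) S (⊥ : Subobject E)) e :
          Submodule k (W (Fin (n + 1)) (Fin a) k))) ↔
      PolyLE ((Module.finrank k V' : ℚ) • P) ((a : ℚ) • hpY k g (F : Y.Modules)) := by
  obtain ⟨h1, h2⟩ := grSub_isHom_isSat g (Y ↘ Spec (CommRingCat.of k)) S (isQCoh_cokernel_bot hE.1)
  obtain ⟨D1, hD1⟩ := h_bot (k := k) hE hS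
  obtain ⟨Ψ, hΨs, hΨ⟩ := D.fin _ h1 h2 ⟨D1, fun d hd => by
    have h3 := hD1 d hd
    rw [hP, ← D.hΦ d] at h3
    exact_mod_cast h3⟩ V'
  obtain ⟨D2, hD2⟩ := hp_gsub (k := k) hE hS hF hFV
  have hj : Module.finrank k V' ≤ a := by
    have := Submodule.finrank_le V'
    rwa [Module.finrank_fin_fun] at this
  rw [hΨ e he]
  exact SimpNum.king_iff (fun e e' he he' h => D.stab Ψ hΨs _ hj e e' he he' h) D.hΦ
    ⟨max e₁ D2, fun e' he' => by rw [← hD2 e' (by omega), hΨ e' (by omega)]⟩ he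

end Main

end K92.SimpKey
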