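import Groth.Agent.Coherent.K92.SimpKey

/-!
# Simpson moduli, node MT: sections of subsheaves and of quotients

`S : GenSys g E (Fin a) N`, `sc S q i u` the section given by `u ∈ k^a`.
* `sgL_cst`: `sgL (cst u) = Σ u_j v_j`;
* `le_hilb_sub`: if the `v_j` are independent then `dim V' ≤ h⁰(F(N))` for `F` containing the sections in `V'`;
* `le_hilb_quot`: `a ≤ h⁰(Q(N)) + dim V''`, `V''` the sections which vanish in the quotient `Q`;
* `mem_ker`: sections of the kernel.
-/

set_option autoImplicit false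

universe u

open CategoryTheory CategoryTheory.Limits AlgebraicGeometry

namespace K92.SimpSec

open Groth.Agent Fga.QA0 Fga.QTDefs Fga.QT8 Fga.QT4b Fga.QT5 K92.SimpHp K92.SimpSub K585.Defs K92.SimpKey

section Lin

variable {k : Type u} [Field k] {n a N : ℕ} {Y : Scheme.{u}} {g : Y ⟶ PZ n} {q : Y ⟶ Spec (CommRingCat.of k)}
  {E : Y.Modules}

variable (k n a) in
/-- `u ↦ cst u`, linear -/
noncomputable def cstL : (Fin a → k) →ₗ[k] W (Fin (n + 1)) (Fin a) k where
  toFun u := cst u
  map_add' u w := by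
    funext j
    exact MvPolynomial.C_add
  map_smul' c u := by
    funext j
    change MvPolynomial.C (c * u j) = c • MvPolynomial.C (u j)
    rw [MvPolynomial.C_mul, MvPolynomial.smul_eq_C_mul]

lemma sec_sum_apply {J : Type*} (t : Finset J) (f : J → Sec g q E) (i : Fin (n + 1)) :
    (∑ j ∈ t, f j) i = ∑ j ∈ t, f j i :=
  map_sum (AddMonoidHom.mk' (fun t : Sec g q E => t i) (fun _ _ => rfl)) f t

lemma sgL_cst (v : Fin a → Sec g q E) (hv : ∀ j, v j ∈ TwSec g q E N) (u : Fin a → k) :
    sgL q (sysOf v hv) (cst u) = ∑ j, u j • v j := by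
  funext i
  rw [sec_sum_apply, sgL_apply, sg_apply]
  refine Finset.sum_congr rfl fun j _ => ?_
  change ev g q i (MvPolynomial.C (u j)) • v j i = _
  rw [ev_C]
  rfl

variable (q) in
/-- the linear map `k^a → H⁰(E(N))` of a system -/
noncomputable def secL (S : GenSys g E (Fin a) N) : (Fin a → k) →ₗ[k] TwSec g q E N :=
  ((sgL q S).comp (cstL k n a)).codRestrict _ fun u => by
    have := sgL_mem S (q := q) (cst_mem_Wd (n := n) u)
    rwa [zero_add] at this

lemma secL_apply (S : GenSys g E (Fin a) N) (u : Fin a → k) (i : Fin (n + 1)) :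
    (secL q S u).1 i = sc S q i u := rfl

/-- Sections of `F` as sections of `E`. -/
noncomputable def inclL (F : Subobject E) : TwSec g q (F : Y.Modules) N →ₗ[k] TwSec g q E N where
  toFun t := ⟨fun i => F.arrow.app _ (t.1 i), fun i j => by
    rw [← app_resM, ← app_resM, t.2 i j, Scheme.Modules.Hom.app_smul]⟩
  map_add' s t := by
    apply Subtype.ext
    funext i
    change F.arrow.app (V g i) (s.1 i + t.1 i) = F.arrow.app (V g i) (s.1 i) + F.arrow.app (V g i) (t.1 i)
    exact map_add _ _ _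
  map_smul' c t := by
    apply Subtype.ext
    funext i
    exact Scheme.Modules.Hom.app_smul _ _ _

lemma app_injective (F : Subobject E) (U : Y.Opens) : Function.Injective (F.arrow.app U) := by
  have h1 : Mono F.arrow := inferInstance
  exact CohqB.QC4.app_injective_of_mono F.arrow U

lemma mem_range_inclL {F : Subobject E} {s : TwSec g q E N} (hs : ∀ i, s.1 i ∈ secSub F (V g i)) :
    s ∈ LinearMap.range (inclL (q := q) (N := N) F) := by
  choose t ht using hs
  refine ⟨⟨t, fun i j => ?_⟩, Subtype.ext (funext ht)⟩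
  apply app_injective F
  rw [Scheme.Modules.Hom.app_smul, app_resM, app_resM, ht, ht]
  exact s.2 i j

end Lin

section Dim

variable {k : Type u} [Field k] {n a N : ℕ} {Y : Scheme.{u}} [Y.Over (Spec (CommRingCat.of k))] {g : Y ⟶ PZ n}
  [IsClosedImmersion (toPA g (Y ↘ Spec (CommRingCat.of k)))] {E : Y.Modules} {S : GenSys g E (Fin a) N}

theorem le_hilb_sub (hE : Coh.IsCoh E) {F : Subobject E} (hF : Coh.IsQCoh (cokernel F.arrow))
    (hinj : Function.Injective (secL (Y ↘ Spec (CommRingCat.of k)) S)) {V' : Submodule k (Fin a → k)}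
    (h : ∀ u ∈ V', ∀ i, sc S (Y ↘ Spec (CommRingCat.of k)) i u ∈ secSub F (V g i)) :
    Module.finrank k V' ≤ hilb g (Y ↘ Spec (CommRingCat.of k)) (F : Y.Modules) N := by
  have hfin := finite_TwSec k g (isCoh_sub k g hE hF) N
  have hfinE := finite_TwSec k g hE N
  have h1 : V'.map (secL (Y ↘ Spec (CommRingCat.of k)) S) ≤
      LinearMap.range (inclL (q := Y ↘ Spec (CommRingCat.of k)) (N := N) F) := by
    rintro _ ⟨u, hu, rfl⟩
    exact mem_range_inclL fun i => h u hu i
  have h2 := Submodule.finrank_mono h1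
  rw [← (Submodule.equivMapOfInjective _ hinj V').finrank_eq] at h2
  exact h2.trans (LinearMap.finrank_range_le _)

/-- the sections which vanish in `Q` -/
noncomputable def kerV (k : Type u) [Field k] {n a N : ℕ} {Y : Scheme.{u}} [Y.Over (Spec (CommRingCat.of k))]
    {g : Y ⟶ PZ n} {E : Y.Modules} (S : GenSys g E (Fin a) N) {Q : Y.Modules} (π : E ⟶ Q) : Submodule k (Fin a → k) :=
  LinearMap.ker (secL (Y ↘ Spec (CommRingCat.of k)) (mapSys S π))

theorem le_hilb_quot {Q : Y.Modules} (hQ : Coh.IsCoh Q) (π : E ⟶ Q) :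
    a ≤ hilb g (Y ↘ Spec (CommRingCat.of k)) Q N + Module.finrank k (kerV k S π) := by
  have hfin := finite_TwSec k g hQ N
  have h1 := LinearMap.finrank_range_add_finrank_ker (secL (Y ↘ Spec (CommRingCat.of k)) (mapSys S π))
  rw [Module.finrank_fin_fun] at h1
  have h2 := Submodule.finrank_le (LinearMap.range (secL (Y ↘ Spec (CommRingCat.of k)) (mapSys S π)))
  unfold hilb
  unfold kerV
  omega

omit [IsClosedImmersion (toPA g (Y ↘ Spec (CommRingCat.of k)))] in
theorem mem_kerV {Q : Y.Modules} (π : E ⟶ Q) {u : Fin a → k} (hu : u ∈ kerV k S π) (i : Fin (n + 1)) :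
    π.app (V g i) (sc S (Y ↘ Spec (CommRingCat.of k)) i u) = 0 := by
  have h1 : secL (Y ↘ Spec (CommRingCat.of k)) (mapSys S π) u = 0 := hu
  have h2 := congrArg (fun t => t.1 i) h1
  have h3 : (secL (Y ↘ Spec (CommRingCat.of k)) (mapSys S π) u).1 i = sc (mapSys S π) _ i u := rfl
  change (secL (Y ↘ Spec (CommRingCat.of k)) (mapSys S π) u).1 i = 0 at h2
  rw [h3, sc, sg_mapSys] at h2
  exact h2

omit [Y.Over (Spec (CommRingCat.of k))] [IsClosedImmersion (toPA g (Y ↘ Spec (CommRingCat.of k)))] in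
theorem mem_secSub_ker {Q : Y.Modules} (π : E ⟶ Q) {U : Y.Opens} {t : Γ(E, U)} (h : π.app U t = 0) :
    t ∈ secSub (Subobject.mk (kernel.ι π)) U := by
  obtain ⟨z, hz⟩ := CohqB.QC4.exists_of_exact (S := ShortComplex.mk (kernel.ι π) π (kernel.condition _))
    (ShortComplex.exact_kernel _) U t h
  refine ⟨(Subobject.underlyingIso (kernel.ι π)).inv.app U z, ?_⟩
  have h1 : (Subobject.underlyingIso (kernel.ι π)).inv ≫ (Subobject.mk (kernel.ι π)).arrow = kernel.ι π :=
    Subobject.underlyingIso_arrow _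
  have h2 : ((Subobject.underlyingIso (kernel.ι π)).inv ≫ (Subobject.mk (kernel.ι π)).arrow).app U z =
      (kernel.ι π).app U z := by rw [h1]
  rw [Scheme.Modules.Hom.comp_app] at h2
  exact h2.trans hz

end Dim

end K92.SimpSec
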